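import Cfsg.Agent.EqLemmas
import Mathlib.GroupTheory.Index
import Mathlib.GroupTheory.GroupAction.Quotient
import Mathlib.GroupTheory.PGroup

/-!
# Operators of order three on elementary abelian 2-groups

`mv g` is the endomorphism `t ↦ g • t * t` of an elementary abelian 2-group (the commutator map).
-/

set_option autoImplicit false

namespace Cfsg.Agent.LineBlocks

variable {G : Type*} [Group G] {V : Type*} [CommGroup V] [MulDistribMulAction G V]

/-- The commutator map `t ↦ g • t * t`. -/
def mv (g : G) : V →* V where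
  toFun t := g • t * t
  map_one' := by rw [smul_one, one_mul]
  map_mul' s t := by rw [smul_mul', mul_mul_mul_comm]

@[simp] theorem mv_apply (g : G) (t : V) : mv g t = g • t * t := rfl

/-- The fixed points of `g`. -/
def fix (g : G) : Subgroup V where
  carrier := {t | g • t = t}
  one_mem' := smul_one g
  mul_mem' {s t} hs ht := by
    simp only [Set.mem_ofPred_eq] at *
    rw [smul_mul', hs, ht]
  inv_mem' {t} ht := by
    simp only [Set.mem_ofPred_eq] at *
    rw [smul_inv', ht]

@[simp] theorem mem_fix {g : G} {t : V} : t ∈ fix g ↔ g • t = t := Iff.rfl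

/-- `g` fixes only `1`. -/
def Fpf (V : Type*) [CommGroup V] [MulDistribMulAction G V] (g : G) : Prop :=
  ∀ t : V, g • t = t → t = 1

variable (h2 : ∀ t : V, t * t = 1)
include h2

theorem inv_eq (t : V) : t⁻¹ = t := inv_eq_of_mul_eq_one_right (h2 t)

theorem mul_eq_one_iff_eq' {s t : V} : s * t = 1 ↔ s = t := by
  rw [mul_eq_one_iff_eq_inv, inv_eq h2]

theorem ker_mv (g : G) : (mv g).ker = fix (V := V) g := by
  ext t
  rw [MonoidHom.mem_ker, mv_apply, mem_fix, mul_eq_one_iff_eq' h2]

theorem card_fix_mul_card_range [Finite V] (g : G) :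
    Nat.card (fix (V := V) g) * Nat.card (mv (V := V) g).range = Nat.card V := by
  rw [← Subgroup.index_ker, ker_mv h2, Subgroup.card_mul_index]

theorem card_range_of_fpf [Finite V] {g : G} (hg : Fpf V g) :
    Nat.card (mv (V := V) g).range = Nat.card V := by
  have h : fix (V := V) g = ⊥ := (Subgroup.eq_bot_iff_forall _).2 fun t ht => hg t ht
  simpa [h] using card_fix_mul_card_range h2 (V := V) g

omit h2 in
theorem mv_mem {g : G} {U : Subgroup V} {t : V} (ht : t ∈ U) (hgt : g • t ∈ U) : mv g t ∈ U :=
  U.mul_mem hgt ht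

theorem smul_eq_of_mv_mem {g : G} {U : Subgroup V} {t : V} (ht : t ∈ U) (h : mv g t ∈ U) :
    g • t ∈ U := by
  have := U.mul_mem h ht
  rwa [mv_apply, mul_assoc, h2, mul_one] at this

/-! ### An element of order three -/

variable {x : G} (hx : ∀ t : V, x • x • x • t = t)
include hx

omit h2 in
theorem smul_triple (t : V) : x • (t * x • t * x • x • t) = t * x • t * x • x • t := by
  rw [smul_mul', smul_mul', hx, mul_comm (x • t * x • x • t) t, mul_assoc]

theorem triple_of_mem_range {d : V} (hd : d ∈ (mv (V := V) x).range) :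
    d * x • d * x • x • d = 1 := by
  obtain ⟨t, rfl⟩ := hd
  simp only [mv_apply, smul_mul', hx]
  calc x • t * t * (x • x • t * x • t) * (t * x • x • t)
      = (t * t) * (x • t * x • t) * (x • x • t * x • x • t) := by ac_rfl
    _ = 1 := by simp only [h2, one_mul]

theorem eq_one_of_fixed_mem_range {d : V} (hd : d ∈ (mv (V := V) x).range) (h : x • d = d) :
    d = 1 := by
  have := triple_of_mem_range h2 hx hd
  rwa [h, h, h2, one_mul] at this

omit h2 hx in
theorem smul_mem_range {d : V} (hd : d ∈ (mv (V := V) x).range) :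
    x • d ∈ (mv (V := V) x).range := by
  obtain ⟨t, rfl⟩ := hd
  exact ⟨x • t, by simp only [mv_apply, smul_mul']⟩

theorem range_cases [Finite V] (hD : Nat.card (mv (V := V) x).range = 4) {d : V}
    (hd : d ∈ (mv (V := V) x).range) (hd1 : d ≠ 1) {e : V} (he : e ∈ (mv (V := V) x).range) :
    e = 1 ∨ e = d ∨ e = x • d ∨ e = x • x • d := by
  classical
  have n1 : x • d ≠ d := fun h => hd1 (eq_one_of_fixed_mem_range h2 hx hd h)
  have n2 : x • x • d ≠ x • d := fun h => n1 (smul_left_cancel x h)
  have n3 : x • x • d ≠ d := fun h => n1 (by rw [← congrArg (x • ·) h, hx])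
  have o1 : x • d ≠ 1 := fun h => hd1 (smul_left_cancel x (h.trans (smul_one x).symm))
  have o2 : x • x • d ≠ 1 := fun h => o1 (smul_left_cancel x (h.trans (smul_one x).symm))
  set s : Finset V := {1, d, x • d, x • x • d} with hs
  have hsc : s.card = 4 := by
    rw [hs, Finset.card_insert_of_notMem (by simp [Ne.symm hd1, Ne.symm o1, Ne.symm o2]),
      Finset.card_insert_of_notMem (by simp [Ne.symm n1, Ne.symm n3]),
      Finset.card_insert_of_notMem (by simp [Ne.symm n2]), Finset.card_singleton]
  have hsub : (s : Set V) ⊆ ((mv (V := V) x).range : Set V) := by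
    intro y hy
    simp only [hs, Finset.coe_insert, Finset.coe_singleton, Set.mem_insert_iff,
      Set.mem_singleton_iff] at hy
    rcases hy with rfl | rfl | rfl | rfl
    · exact one_mem _
    · exact hd
    · exact smul_mem_range hd
    · exact smul_mem_range (smul_mem_range hd)
  have heq := Set.eq_of_subset_of_ncard_le hsub (by
    rw [Set.ncard_coe_finset, hsc, ← Nat.card_coe_set_eq]; exact hD.le) (Set.toFinite _)
  have : e ∈ (s : Set V) := heq ▸ he
  simpa [hs] using this

theorem range_le_of_invariant [Finite V] (hD : Nat.card (mv (V := V) x).range = 4)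
    {U : Subgroup V} (hU : ∀ t ∈ U, x • t ∈ U) {t : V} (ht : t ∈ U) (hxt : x • t ≠ t) :
    (mv (V := V) x).range ≤ U := by
  intro e he
  have hd : mv x t ∈ U := mv_mem ht (hU t ht)
  have hd1 : mv x t ≠ 1 := fun h => hxt ((mul_eq_one_iff_eq' h2).1 h)
  rcases range_cases h2 hx hD ⟨t, rfl⟩ hd1 he with rfl | rfl | rfl | rfl
  · exact one_mem _
  · exact hd
  · exact hU _ hd
  · exact hU _ (hU _ hd)

omit hx in
theorem card_le_four_of_inj [Finite V] (hD : Nat.card (mv (V := V) x).range = 4)
    {U : Subgroup V} (hU : ∀ t ∈ U, x • t = t → t = 1) : Nat.card U ≤ 4 := by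
  rw [← hD]
  refine Nat.card_le_card_of_injective
    (fun t : U => (⟨mv x t, ⟨t, rfl⟩⟩ : (mv (V := V) x).range)) fun s t hst => Subtype.ext ?_
  have h := congrArg Subtype.val hst
  have h' : mv x ((s : V) * t) = 1 := by rw [map_mul]; exact (mul_eq_one_iff_eq' h2).2 h
  exact (mul_eq_one_iff_eq' h2).1 (hU _ (U.mul_mem s.2 t.2) ((mul_eq_one_iff_eq' h2).1 h'))

end Cfsg.Agent.LineBlocks
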