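import Cfsg.Agent.Lib.LineBlocks.Primitive

/-!
# A small block containing the commutator of an element of order three

`hasBlock`: an odd order soluble group acts on an elementary abelian 2-group `V`, `x` has order three
on `V` with `|[V, x]| = 4`. Then some `W ⊇ [V, x]` of order at most eight has every translate other
than itself centralised by `x`.
-/

set_option autoImplicit false

open Subgroup

namespace Cfsg.Agent.LineBlocks

universe u

/-- There is a subgroup of order at most eight containing `[V, x]`, every translate of which other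
than itself is centralised by `x`. -/
def HasBlock {G : Type*} [Group G] (V : Type u) [CommGroup V] [MulDistribMulAction G V] (x : G) :
    Prop :=
  ∃ W : Subgroup V, (mv (V := V) x).range ≤ W ∧ Nat.card W ≤ 8 ∧
    ∀ g : G, (∃ w ∈ W, g • w ∉ W) → ∀ w ∈ W, x • g • w = g • w

/-- The statement for all faithful actions on groups of order less than `n`. -/
def BlockBelow (n : ℕ) : Prop :=
  ∀ (V : Type u) [CommGroup V] [Finite V], Nat.card V < n → (∀ t : V, t * t = 1) →
    ∀ (G : Subgroup (MulAut V)), Group.IsSolvable G → Odd (Nat.card G) → ∀ x : G, x ^ 3 = 1 →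
      Nat.card (mv (V := V) x).range = 4 → HasBlock V x

section Step

variable {G : Type*} [Group G] [Finite G] {V : Type u} [CommGroup V] [Finite V]
  [MulDistribMulAction G V]

/-- Fixed points of a set of elements. -/
def cfix (B : Subgroup G) : Subgroup V where
  carrier := {t | ∀ b ∈ B, b • t = t}
  one_mem' := fun b _ => smul_one b
  mul_mem' := fun hs ht b hb => by rw [smul_mul', hs b hb, ht b hb]
  inv_mem' := fun hs b hb => by rw [smul_inv', hs b hb]

omit [Finite G] [Finite V] in
theorem mem_cfix {B : Subgroup G} {t : V} : t ∈ cfix B ↔ ∀ b ∈ B, b • t = t := Iff.rfl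

variable [hS : Group.IsSolvable G]
variable (h2 : ∀ t : V, t * t = 1) (hG : Odd (Nat.card G)) {x : G} (hx : x ^ 3 = 1)
  (hD : Nat.card (mv (V := V) x).range = 4) (IH : BlockBelow.{u} (Nat.card V))
include h2 hG hx hD IH

omit [Finite G] in
theorem restrict {U : Subgroup V} (hU : U ≠ ⊤) (H : Subgroup G)
    (hHU : ∀ g ∈ H, ∀ t ∈ U, g • t ∈ U) (hxH : x ∈ H) (hDU : (mv (V := V) x).range ≤ U) :
    ∃ W : Subgroup V, W ≤ U ∧ (mv (V := V) x).range ≤ W ∧ Nat.card W ≤ 8 ∧
      ∀ g ∈ H, (∃ w ∈ W, g • w ∉ W) → ∀ w ∈ W, x • g • w = g • w := by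
  let _act : MulDistribMulAction H U :=
    { smul := fun g t => ⟨(g : G) • (t : V), hHU g g.2 t t.2⟩
      one_smul := fun t => Subtype.ext (one_smul G (t : V))
      mul_smul := fun a b t => Subtype.ext (mul_smul (a : G) b (t : V))
      smul_mul := fun a s t => Subtype.ext (smul_mul' (a : G) (s : V) t)
      smul_one := fun a => Subtype.ext (smul_one (a : G)) }
  let φ := MulDistribMulAction.toMulAut H U
  let x' : φ.range := φ.rangeRestrict ⟨x, hxH⟩
  have hx' : x' ^ 3 = 1 := by
    rw [← map_pow, show (⟨x, hxH⟩ : H) ^ 3 = 1 from Subtype.ext hx, map_one]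
  have hx3 := pow_three_smul (V := V) hx
  have hR : (mv (V := U) x').range.map U.subtype = (mv (V := V) x).range := by
    refine le_antisymm ?_ fun d hd => ?_
    · rintro _ ⟨_, ⟨t, rfl⟩, rfl⟩
      exact ⟨(t : V), rfl⟩
    · obtain ⟨t, rfl⟩ := hd
      have e : mv x t = mv x (mv x (x • t)) := by
        simp only [mv_apply, smul_mul', hx3]
        calc x • t * t = x • t * t * (x • x • t * x • x • t) := by rw [h2, mul_one]
          _ = _ := by ac_rfl
      rw [e]
      exact ⟨_, ⟨⟨mv x (x • t), hDU ⟨_, rfl⟩⟩, rfl⟩, rfl⟩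
  have hlt : Nat.card U < Nat.card V :=
    (Subgroup.card_le_card_group U).lt_of_ne fun h => hU (eq_top_of_card_eq U h)
  obtain ⟨W, hW1, hW2, hW3⟩ := IH U hlt (fun t => Subtype.ext (h2 t)) φ.range
    (Group.isSolvable_of_surjective φ.rangeRestrict_surjective)
    (hG.of_dvd_nat ((Subgroup.card_range_dvd φ).trans H.card_subgroup_dvd_card))
    x' hx' (by rw [← hD, ← hR, Subgroup.card_map_of_injective U.subtype_injective])
  refine ⟨W.map U.subtype, map_subtype_le W, hR ▸ Subgroup.map_mono hW1,
    (Subgroup.card_map_of_injective U.subtype_injective).trans_le hW2, ?_⟩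
  rintro g hg ⟨_, ⟨w, hw, rfl⟩, hgw⟩ _ ⟨v, hv, rfl⟩
  exact congrArg Subtype.val (hW3 (φ.rangeRestrict ⟨g, hg⟩)
    ⟨w, hw, fun h => hgw ⟨_, h, rfl⟩⟩ v hv)

/-- The imprimitive case. -/
theorem hasBlock_imprimitive [FaithfulSMul G V]
    (hirr : ∀ U : Subgroup V, (∀ g : G, ∀ t ∈ U, g • t ∈ U) → U ≠ ⊤ → U = ⊥)
    {A : Subgroup G} (hAn : A.Normal) (hAc : ∀ a ∈ A, ∀ b ∈ A, a * b = b * a) {a : G}
    (ha : a ∈ A) (ha1 : a ≠ 1) {t₀ : V} (hat : a • t₀ = t₀) (ht₀ : t₀ ≠ 1) : HasBlock V x := by
  classical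
  have hx3 := pow_three_smul (V := V) hx
  obtain ⟨B, haB, hBmax⟩ := Finite.exists_le_maximal (α := Subgroup G)
    (p := fun B => B ≤ A ∧ ∃ t : V, t ≠ 1 ∧ t ∈ cfix B) (a := zpowers a)
    ⟨zpowers_le.2 ha, t₀, ht₀, fun b hb => by
      have : zpowers a ≤ MulAction.stabilizer G t₀ := zpowers_le.2 hat
      exact this hb⟩
  obtain ⟨hBA, tB, htB1, htB⟩ := hBmax.prop
  -- blocks
  let P : G → Subgroup V := fun g => cfix (B.map (MulAut.conj g).toMonoidHom)
  have hP : ∀ g t, t ∈ P g ↔ g⁻¹ • t ∈ cfix B := by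
    intro g t
    simp only [P, mem_cfix]
    constructor
    · intro h b hb
      have := h (g * b * g⁻¹) ⟨b, hb, rfl⟩
      rw [mul_smul, mul_smul, smul_eq_iff_eq_inv_smul] at this
      exact this
    · rintro h _ ⟨b, hb, rfl⟩
      show (g * b * g⁻¹) • t = t
      rw [mul_smul, mul_smul, h b hb, smul_inv_smul]
  have hPs : ∀ g k t, t ∈ P g → k • t ∈ P (k * g) := by
    intro g k t ht
    rw [hP] at ht ⊢
    rwa [mul_inv_rev, mul_smul, inv_smul_smul]
  have hPne : ∀ g, ∃ t ∈ P g, t ≠ 1 := fun g =>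
    ⟨g • tB, (hP g _).2 (by rwa [inv_smul_smul]), fun h => htB1
      (smul_left_cancel g (h.trans (smul_one g).symm))⟩
  have hPA : ∀ g, ∀ b ∈ A, ∀ t ∈ P g, b • t ∈ P g := by
    intro g b hb t ht
    rw [hP] at ht ⊢
    intro c hc
    have hb' : g⁻¹ * b * g ∈ A := by simpa using hAn.conj_mem b hb g⁻¹
    rw [show g⁻¹ • b • t = (g⁻¹ * b * g) • g⁻¹ • t by simp [mul_smul],
      ← mul_smul, hAc c (hBA hc) _ hb', mul_smul, ht c hc]
  have hmax : ∀ g (B' : Subgroup G), B.map (MulAut.conj g).toMonoidHom ≤ B' → B' ≤ A →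
      ∀ t : V, t ≠ 1 → t ∈ cfix B' → B' ≤ B.map (MulAut.conj g).toMonoidHom := by
    intro g B' hle hA t ht1 ht b hb
    have h := hBmax.2 (y := B'.map (MulAut.conj g⁻¹).toMonoidHom) ⟨?_, g⁻¹ • t,
      fun h => ht1 (by simpa using congrArg (g • ·) h), ?_⟩ ?_
    · exact ⟨g⁻¹ * b * g, h ⟨b, hb, by simp⟩, by simp [mul_assoc]⟩
    · rintro _ ⟨b, hb, rfl⟩
      exact hAn.conj_mem b (hA hb) g⁻¹
    · rintro _ ⟨b, hb, rfl⟩
      simp [mul_smul, ht b hb]
    · intro b hb
      exact ⟨g * b * g⁻¹, hle ⟨b, hb, rfl⟩, by simp [mul_assoc]⟩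
  have hdisj : ∀ g k (t : V), t ∈ P g → t ∈ P k → t ≠ 1 → P g = P k := by
    intro g k t hg hk ht
    have hle : ∀ g, B.map (MulAut.conj g).toMonoidHom ≤ A := by
      rintro g _ ⟨b, hb, rfl⟩
      exact hAn.conj_mem b (hBA hb) g
    have key : t ∈ cfix (B.map (MulAut.conj g).toMonoidHom ⊔ B.map (MulAut.conj k).toMonoidHom) :=
      fun b hb => (sup_le (c := MulAction.stabilizer G t) hg hk) hb
    have e1 := hmax g _ le_sup_left (sup_le (hle g) (hle k)) t ht key
    have e2 := hmax k _ le_sup_right (sup_le (hle g) (hle k)) t ht key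
    simp only [P, le_antisymm (le_sup_right.trans e1) (le_sup_left.trans e2)]
  -- `x` leaves every block invariant
  have hxP : ∀ g, ∀ t ∈ P g, x • t ∈ P g := by
    by_contra h
    push Not at h
    obtain ⟨g, t, ht, hxt⟩ := h
    have ht1 : t ≠ 1 := fun e => hxt (by rw [e, smul_one]; exact one_mem _)
    have hxt' := hPs g x t ht
    have hxxt : x • x • t ∈ P (x * (x * g)) := hPs _ x _ hxt'
    have h01 : P g ≠ P (x * g) := fun e => hxt (e ▸ hxt')
    have hfree : ∀ s ∈ P g, x • s = s → s = 1 := fun s hs hxs => by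
      by_contra hs1
      exact h01 (hdisj _ _ s hs (hxs ▸ hPs g x s hs) hs1)
    have hle := card_le_four_of_inj h2 hD hfree
    obtain ⟨m, hm⟩ := card_eq_two_pow h2 (P g)
    have hm0 : m ≠ 0 := by
      rintro rfl
      obtain ⟨s, hs, hs1⟩ := hPne g
      rw [pow_zero, Subgroup.card_eq_one] at hm
      exact hs1 (mem_bot.1 (hm ▸ hs))
    have hm2 : m ≤ 2 := by
      rw [hm] at hle
      exact (Nat.pow_le_pow_iff_right (le_refl 2)).1 hle
    rcases (show m = 1 ∨ m = 2 by omega) with rfl | rfl
    · -- blocks of order two: `A` fixes a point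
      rw [pow_one] at hm
      have hfix : ∀ b ∈ A, b • t = t := by
        intro b hb
        have hbt := hPA g b hb t ht
        have hc : ((P g : Set V) \ {1}).ncard = 1 := by
          rw [Set.ncard_sdiff_singleton_of_mem (one_mem _), ← Nat.card_coe_set_eq]
          simp only [SetLike.coe_sort_coe, hm]
        obtain ⟨s, hs⟩ := Set.ncard_eq_one.1 hc
        have e1 : t ∈ ({s} : Set V) := hs ▸ ⟨ht, ht1⟩
        have e2 : b • t ∈ ({s} : Set V) :=
          hs ▸ ⟨hbt, fun e => ht1 (smul_left_cancel b (e.trans (smul_one b).symm))⟩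
        exact e2.trans e1.symm
      have hinv : ∀ g : G, ∀ s ∈ cfix (V := V) A, g • s ∈ cfix (V := V) A := by
        intro k s hs b hb
        have hb' : k⁻¹ * b * k ∈ A := by simpa using hAn.conj_mem b hb k⁻¹
        rw [show b • k • s = k • (k⁻¹ * b * k) • s by simp [mul_smul], hs _ hb']
      rcases eq_or_ne (cfix (V := V) A) ⊤ with htop | htop
      · exact ha1 (eq_of_smul_eq_smul fun s : V => by
          rw [one_smul]; exact (htop ▸ mem_top s : s ∈ cfix A) a ha)
      · exact ht1 (mem_bot.1 (hirr _ hinv htop ▸ (hfix : t ∈ cfix A)))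
    · -- blocks of order four
      have hbij : Function.Bijective (fun s : P g => (⟨mv x s, s, rfl⟩ : (mv (V := V) x).range)) := by
        rw [Nat.bijective_iff_injective_and_card]
        refine ⟨fun s r hsr => Subtype.ext ?_, by rw [hm, hD]; norm_num⟩
        have h' : mv x ((s : V) * r) = 1 := by
          rw [map_mul]; exact (mul_eq_one_iff_eq' h2).2 (congrArg Subtype.val hsr)
        exact (mul_eq_one_iff_eq' h2).1 (hfree _ ((P g).mul_mem s.2 r.2)
          ((mul_eq_one_iff_eq' h2).1 h'))
      obtain ⟨⟨s, hs⟩, hst⟩ := hbij.2 ⟨x • mv x t, smul_mem_range ⟨t, rfl⟩⟩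
      have hst' : x • s * s = x • x • t * x • t := by
        have := congrArg Subtype.val hst
        simpa [smul_mul'] using this
      have hdec : x • x • t = s * (x • t * x • s) := by
        calc x • x • t = x • x • t * x • t * x • t := by rw [mul_assoc, h2, mul_one]
          _ = x • s * s * x • t := by rw [hst']
          _ = _ := by ac_rfl
      have hu' : x • t * x • s ∈ P (x * g) := mul_mem hxt' (hPs g x s hs)
      set u' := x • t * x • s
      have hPg'' : P g ≠ P (x * (x * g)) := by
        intro e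
        have h1 := hPs _ x _ (hPs g x _ ht)
        rw [← e] at h1
        have h3 := hPs _ x _ (hPs g x _ h1)
        rw [← e, hx3] at h3
        exact hxt h3
      have hP' : P (x * g) ≠ P (x * (x * g)) := by
        intro e
        have h1 := hPs _ (x * x) _ (show x • x • t ∈ P (x * g) from e ▸ hxxt)
        have e3 : x * x * (x * g) = g := by
          rw [← mul_assoc, mul_assoc x x x, ← pow_three, hx, one_mul]
        rw [e3, mul_smul, hx3] at h1
        exact hxt h1
      -- both components of `x • x • t` lie in the third block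
      have hcomp : s ∈ P (x * (x * g)) ∧ u' ∈ P (x * (x * g)) := by
        have : ∀ b ∈ B.map (MulAut.conj (x * (x * g))).toMonoidHom, b • s = s ∧ b • u' = u' := by
          intro b hb
          have hbA : b ∈ A := by
            obtain ⟨c, hc, rfl⟩ := hb
            exact hAn.conj_mem c (hBA hc) _
          have hfx : b • (x • x • t) = x • x • t := hxxt b hb
          rw [hdec, smul_mul'] at hfx
          have e : b • s * s = b • u' * u' := by
            calc b • s * s = (b • s * b • u') * (s * (b • u')) * 1 := by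
                  rw [mul_one, show b • s * b • u' * (s * b • u') =
                    b • s * s * (b • u' * b • u') by ac_rfl, h2, mul_one]
              _ = (s * u') * (s * b • u') := by rw [mul_one, hfx]
              _ = (s * s) * (b • u' * u') := by ac_rfl
              _ = _ := by rw [h2, one_mul]
          have hmem : b • s * s ∈ P g := mul_mem (hPA g b hbA s hs) hs
          have hmem' : b • s * s ∈ P (x * g) := e ▸ mul_mem (hPA _ b hbA _ hu') hu'
          have h1 : b • s * s = 1 := by
            by_contra hne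
            exact h01 (hdisj _ _ _ hmem hmem' hne)
          exact ⟨(mul_eq_one_iff_eq' h2).1 h1, (mul_eq_one_iff_eq' h2).1 (e ▸ h1)⟩
        exact ⟨fun b hb => (this b hb).1, fun b hb => (this b hb).2⟩
      have hs1 : s = 1 := by
        by_contra hne
        exact hPg'' (hdisj _ _ _ hs hcomp.1 hne)
      have hu1 : u' = 1 := by
        by_contra hne
        exact hP' (hdisj _ _ _ hu' hcomp.2 hne)
      rw [hs1, hu1, one_mul] at hdec
      exact ht1 (smul_left_cancel x (smul_left_cancel x (hdec.trans (by simp))))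
  -- some block is not centralised
  obtain ⟨g₀, t, ht, hxt⟩ : ∃ g, ∃ t ∈ P g, x • t ≠ t := by
    by_contra h
    push Not at h
    let F : Subgroup V := cfix (normalClosure {x})
    have hF : ∀ t ∈ P 1, t ∈ F := by
      intro t ht b hb
      let S : Subgroup G :=
        { carrier := {b | ∀ k, ∀ s ∈ P k, b • s = s}
          one_mem' := fun k s _ => one_smul G s
          mul_mem' := fun ha hb k s hs => by rw [mul_smul, hb k s hs, ha k s hs]
          inv_mem' := fun ha k s hs => inv_smul_eq_iff.2 (ha k s hs).symm }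
      have hSn : S.Normal := ⟨fun b hb g k s hs => by
        rw [mul_smul, mul_smul, hb _ _ (hPs k g⁻¹ s hs), smul_inv_smul]⟩
      exact (normalClosure_le_normal (N := S) (Set.singleton_subset_iff.2 h) hb) 1 t ht
    have hFinv : ∀ g : G, ∀ s ∈ F, g • s ∈ F := by
      intro k s hs b hb
      have hb' : k⁻¹ * b * k ∈ normalClosure {x} := by
        simpa using (normalClosure_normal (s := {x})).conj_mem b hb k⁻¹
      rw [show b • k • s = k • (k⁻¹ * b * k) • s by simp [mul_smul], hs _ hb']
    rcases eq_or_ne F ⊤ with htop | htop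
    · have : (mv (V := V) x).range = ⊥ := (eq_bot_iff_forall _).2 (by
        rintro _ ⟨s, rfl⟩
        exact (mul_eq_one_iff_eq' h2).2 ((htop ▸ mem_top s : s ∈ F) x (subset_normalClosure rfl)))
      simp [this] at hD
    · obtain ⟨s, hs, hs1⟩ := hPne 1
      exact hs1 (mem_bot.1 (hirr F hFinv htop ▸ hF s hs))
  have hDU : (mv (V := V) x).range ≤ P g₀ := range_le_of_invariant h2 hx3 hD (hxP g₀) ht hxt
  have hne : P g₀ ≠ ⊤ := by
    intro e
    apply ha1
    have : g₀ * a * g₀⁻¹ = 1 := eq_of_smul_eq_smul fun s : V => by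
      rw [one_smul]
      exact (e ▸ mem_top s : s ∈ P g₀) _ ⟨a, haB (mem_zpowers a), rfl⟩
    simpa using this
  let H : Subgroup G :=
    { carrier := {g | ∀ s, s ∈ P g₀ ↔ g • s ∈ P g₀}
      one_mem' := fun s => by simp
      mul_mem' := fun {g k} hg hk s => by rw [mul_smul, ← hg, ← hk]
      inv_mem' := fun {g} hg s => by
        have := hg (g⁻¹ • s)
        rw [smul_inv_smul] at this
        exact this.symm }
  have hxH : x ∈ H := fun s => ⟨fun h => hxP g₀ s h, fun h => by
    have := hxP g₀ _ (hxP g₀ _ h)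
    rwa [hx3] at this⟩
  obtain ⟨W, hWU, hDW, hW8, hW⟩ :=
    restrict h2 hG hx hD IH hne H (fun g hg s hs => (hg s).1 hs) hxH hDU
  refine ⟨W, hDW, hW8, fun g hgW w hw => ?_⟩
  by_cases hgH : g ∈ H
  · exact hW g hgH hgW w hw
  have hblock : P (g * g₀) ≠ P g₀ := by
    intro e
    refine hgH fun s => ⟨fun hs => e ▸ hPs g₀ g s hs, fun hs => ?_⟩
    have := hPs (g * g₀) g⁻¹ _ (e.symm ▸ hs : g • s ∈ P (g * g₀))
    rwa [inv_smul_smul, inv_mul_cancel_left] at this
  have hgw := hPs g₀ g w (hWU hw)
  by_contra hne'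
  exact hblock (hdisj _ _ (mv x (g • w)) (mv_mem hgw (hxP _ _ hgw)) (hDU ⟨_, rfl⟩)
    fun h => hne' ((mul_eq_one_iff_eq' h2).1 h))

theorem hasBlock_step [FaithfulSMul G V] : HasBlock V x := by
  classical
  have hx3 := pow_three_smul (V := V) hx
  by_cases hred : ∃ U : Subgroup V, U ≠ ⊤ ∧ (∀ g : G, ∀ t ∈ U, g • t ∈ U) ∧ ∃ t ∈ U, x • t ≠ t
  · obtain ⟨U, hU, hinv, t, ht, hxt⟩ := hred
    obtain ⟨W, -, h1, h3, h4⟩ := restrict h2 hG hx hD IH hU ⊤ (fun g _ => hinv g) (mem_top x)
      (range_le_of_invariant h2 hx3 hD (hinv x) ht hxt)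
    exact ⟨W, h1, h3, fun g hg => h4 g (mem_top g) hg⟩
  push Not at hred
  have hirr : ∀ U : Subgroup V, (∀ g : G, ∀ t ∈ U, g • t ∈ U) → U ≠ ⊤ → U = ⊥ := by
    intro U hinv hU
    set X := normalClosure ({x} : Set G)
    have : Fintype X := Fintype.ofFinite X
    let e : V →* V :=
      { toFun := fun t => ∏ b : X, (b : G) • t
        map_one' := by simp
        map_mul' := fun s t => by simp only [smul_mul', Finset.prod_mul_distrib] }
    have heq : ∀ g : G, ∀ t, e (g • t) = g • e t := by
      intro g t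
      simp only [e, MonoidHom.coe_mk, OneHom.coe_mk, Finset.smul_prod']
      have hXn : X.Normal := normalClosure_normal
      refine Fintype.prod_equiv (MulAut.conjNormal g⁻¹ : MulAut X).toEquiv _ _ fun b => ?_
      simp [mul_smul]
    have hker : e.ker = ⊤ := by
      by_contra h
      have hxe : ∀ t : V, e (x • t * t) = 1 := fun t => by
        have : e (x • t) = e t := by
          simp only [e, MonoidHom.coe_mk, OneHom.coe_mk]
          refine Fintype.prod_equiv (Equiv.mulRight ⟨x, subset_normalClosure rfl⟩) _ _ fun b => ?_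
          simp [mul_smul]
        rw [map_mul, this, h2]
      have hd : ∀ t : V, x • t * t = 1 := fun t => eq_one_of_fixed_mem_range h2 hx3 ⟨t, rfl⟩
        (hred e.ker h (fun g s hs => by
          rw [MonoidHom.mem_ker] at hs ⊢; rw [heq, hs, smul_one]) _ (hxe t))
      have : (mv (V := V) x).range = ⊥ := (eq_bot_iff_forall _).2 (by
        rintro _ ⟨s, rfl⟩; exact hd s)
      simp [this] at hD
    refine (eq_bot_iff_forall _).2 fun t ht => ?_
    let S : Subgroup G :=
      { carrier := {b | ∀ s ∈ U, b • s = s}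
        one_mem' := fun s _ => one_smul G s
        mul_mem' := fun ha hb s hs => by rw [mul_smul, hb s hs, ha s hs]
        inv_mem' := fun ha s hs => inv_smul_eq_iff.2 (ha s hs).symm }
    have hSn : S.Normal := ⟨fun b hb g s hs => by
      rw [mul_smul, mul_smul, hb _ (hinv g⁻¹ s hs), smul_inv_smul]⟩
    have hX : X ≤ S :=
      normalClosure_le_normal (Set.singleton_subset_iff.2 fun s hs => hred U hU hinv s hs)
    have het : e t = t := by
      simp only [e, MonoidHom.coe_mk, OneHom.coe_mk]
      rw [Finset.prod_congr rfl (fun b _ => hX b.2 t ht), Finset.prod_const, Finset.card_univ]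
      obtain ⟨k, hk⟩ := hG.of_dvd_nat X.card_subgroup_dvd_card
      rw [← Nat.card_eq_fintype_card, hk, pow_succ, pow_mul, pow_two, h2, one_pow, one_mul]
    rw [← het]
    exact (hker ▸ mem_top t : t ∈ e.ker)
  by_cases hP : FpfAbelianNormals G V
  · refine ⟨⊤, le_top, ?_, fun g ⟨w, _, hw⟩ => absurd (mem_top _) hw⟩
    rw [Subgroup.card_top]
    exact card_le_eight h2 hG hx hD hP
  unfold FpfAbelianNormals Fpf at hP
  push Not at hP
  obtain ⟨A, hAn, hAc, a, ha, ha1, t, hat, ht⟩ := hP
  exact hasBlock_imprimitive h2 hG hx hD IH hirr hAn hAc ha ha1 hat ht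

end Step

theorem blockBelow : ∀ n, BlockBelow.{u} n := by
  intro n
  induction n with
  | zero => intro V _ _ h; exact absurd h (Nat.not_lt_zero _)
  | succ n ih =>
    intro V _ _ hV h2 G hS hG x hx hD
    exact hasBlock_step h2 hG hx hD (fun U _ _ hU => ih U (by omega))

/-- The structure theorem. -/
theorem hasBlock {G : Type*} [Group G] [Finite G] [Group.IsSolvable G] {V : Type u} [CommGroup V]
    [Finite V] [MulDistribMulAction G V] (h2 : ∀ t : V, t * t = 1) (hG : Odd (Nat.card G)) {x : G}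
    (hx : ∀ t : V, x • x • x • t = t) (hD : Nat.card (mv (V := V) x).range = 4) :
    HasBlock V x := by
  let φ := MulDistribMulAction.toMulAut G V
  have hx' : φ.rangeRestrict x ^ 3 = 1 := Subtype.ext (MulEquiv.ext fun t => by
    show (φ x ^ 3) t = t
    rw [pow_three]
    exact hx t)
  obtain ⟨W, h1, h3, h4⟩ := blockBelow (Nat.card V + 1) V (Nat.lt_succ_self _) h2 φ.range
    (Group.isSolvable_of_surjective φ.rangeRestrict_surjective)
    (hG.of_dvd_nat (Subgroup.card_range_dvd φ)) (φ.rangeRestrict x) hx' hD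
  exact ⟨W, h1, h3, fun g hg w hw => h4 (φ.rangeRestrict g) hg w hw⟩

end Cfsg.Agent.LineBlocks
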