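import Cfsg.Agent.Lib.LineBlocks.Basic

/-!
# Counting lemmas for fixed-point-free operators, and eigenspaces of an element of order three
-/

set_option autoImplicit false

namespace Cfsg.Agent.LineBlocks

variable {G : Type*} [Group G] {V : Type*} [CommGroup V] [MulDistribMulAction G V]

/-- A group acting fixed point freely on an invariant subgroup `U` has order dividing `|U| - 1`. -/
theorem card_dvd_sub_one [Finite V] (A : Subgroup G) (U : Subgroup V)
    (hU : ∀ a ∈ A, ∀ t ∈ U, a • t ∈ U) (hA : ∀ a ∈ A, a ≠ 1 → Fpf V a) :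
    Nat.card A ∣ Nat.card U - 1 := by
  classical
  let α := {t : V // t ∈ U ∧ t ≠ 1}
  let _act : MulAction A α :=
    { smul := fun a t => ⟨(a : G) • t.1, hU a a.2 _ t.2.1, fun h => t.2.2
        (smul_left_cancel (a : G) (h.trans (smul_one _).symm))⟩
      one_smul := fun t => Subtype.ext (one_smul G t.1)
      mul_smul := fun a b t => Subtype.ext (mul_smul (a : G) b t.1) }
  have hfree : ∀ t : α, MulAction.stabilizer A t = ⊥ := by
    intro t
    refine (Subgroup.eq_bot_iff_forall _).2 fun a ha => ?_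
    by_contra ha1
    exact t.2.2 (hA a a.2 (fun h => ha1 (Subtype.ext h)) t.1 (congrArg Subtype.val ha))
  have hc : Nat.card α = Nat.card U - 1 := by
    have e : Nat.card α = ((U : Set V) \ {1}).ncard := by
      rw [← Nat.card_coe_set_eq]
      rfl
    rw [e, Set.ncard_sdiff_singleton_of_mem U.one_mem, ← Nat.card_coe_set_eq]
    rfl
  rw [← hc, Nat.card_congr (MulAction.selfEquivOrbitsQuotientProd hfree), Nat.card_prod]
  exact dvd_mul_left _ _

theorem card_fix_conj (w g : G) :
    Nat.card (fix (V := V) (w * g * w⁻¹)) = Nat.card (fix (V := V) g) := by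
  refine Nat.card_congr (Equiv.subtypeEquiv (MulAction.toPerm w⁻¹) fun t => ?_)
  simp only [MulAction.toPerm_apply, mem_fix, mul_smul]
  constructor
  · intro h
    have := congrArg (w⁻¹ • ·) h
    simpa using this
  · intro h
    rw [h, smul_inv_smul]

theorem smul_mem_fix {s g : G} (h : s * g = g * s) {t : V} (ht : t ∈ fix (V := V) g) :
    s • t ∈ fix (V := V) g := by
  rw [mem_fix] at *
  rw [← mul_smul, ← h, mul_smul, ht]

theorem pow_three_smul {g : G} (hg : g ^ 3 = 1) (t : V) : g • g • g • t = t := by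
  rw [← mul_smul, ← mul_smul]
  have : g * g * g = 1 := by rw [← hg, pow_three, mul_assoc]
  rw [this, one_smul]

variable (h2 : ∀ t : V, t * t = 1)
include h2

theorem card_range_commutator_le [Finite V] (x a : G) :
    Nat.card (mv (V := V) (x * a * x⁻¹ * a⁻¹)).range ≤
      Nat.card (mv (V := V) x).range * Nat.card (mv (V := V) x).range := by
  rw [← Nat.card_prod]
  set R := (mv (V := V) x).range
  have hsub : ∀ t : V, ∃ p : R × R, mv (x * a * x⁻¹ * a⁻¹) t = (p.1 : V) * a • (p.2 : V) := by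
    intro t
    refine ⟨(⟨mv x (a • x⁻¹ • a⁻¹ • t), _, rfl⟩, ⟨mv x (x⁻¹ • a⁻¹ • t), _, rfl⟩), ?_⟩
    simp only [mv_apply, mul_smul, smul_mul', smul_inv_smul]
    calc x • a • x⁻¹ • a⁻¹ • t * t
        = x • a • x⁻¹ • a⁻¹ • t * t * (a • x⁻¹ • a⁻¹ • t * a • x⁻¹ • a⁻¹ • t) := by
          rw [h2 (a • x⁻¹ • a⁻¹ • t), mul_one]
      _ = _ := by ac_rfl
  choose p hp using hsub
  refine Nat.card_le_card_of_injective
    (fun e : (mv (V := V) (x * a * x⁻¹ * a⁻¹)).range => p e.2.choose) fun e f h => Subtype.ext ?_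
  rw [← e.2.choose_spec, ← f.2.choose_spec, hp, hp]
  simp only at h
  rw [h]

/-- If `v`, `ω` commute, have exponent `3`, and `ω` is fixed point free, then `V` is the product of
the three eigenspaces of `v`; these are conjugate if `v` and `ω * v` are conjugate. -/
theorem eigen [Finite V] {v ω w : G} (hv : v ^ 3 = 1) (hω : ω ^ 3 = 1) (hωf : Fpf V ω)
    (hc : v * ω = ω * v) (hw : w * v * w⁻¹ = ω * v) (hwω : w * ω = ω * w) :
    Nat.card V = Nat.card (fix (V := V) v) ^ 3 ∧
      Nat.card (mv (V := V) v).range = Nat.card (fix (V := V) v) ^ 2 ∧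
      Nat.card (fix (V := V) (ω * v)) = Nat.card (fix (V := V) v) ∧
      Nat.card (fix (V := V) (ω * (ω * v))) = Nat.card (fix (V := V) v) ∧
      ∀ t : V, ∃ a ∈ fix (V := V) v, ∃ b ∈ fix (V := V) (ω * v),
        ∃ c ∈ fix (V := V) (ω * (ω * v)), t = a * b * c := by
  have hc' : ∀ t : V, v • ω • t = ω • v • t := fun t => by rw [← mul_smul, hc, mul_smul]
  have hv3 := pow_three_smul (V := V) hv
  have hω3 := pow_three_smul (V := V) hω
  have hg : ∀ g : G, g * ω = ω * g → g ^ 3 = 1 → (ω * g) ^ 3 = 1 := fun g h1 h3 => by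
    rw [Commute.mul_pow (show Commute ω g from h1.symm), hω, h3, one_mul]
  have h1c : ω * v * ω = ω * (ω * v) := by rw [mul_assoc, hc]
  have g1 := hg v hc hv
  have g2 := hg (ω * v) h1c g1
  have htr : ∀ t : V, t * ω • t * ω • ω • t = 1 := fun t => hωf _ (smul_triple hω3 t)
  have hT : ∀ (g : G), g ^ 3 = 1 → ∀ t : V, t * g • t * g • g • t ∈ fix (V := V) g :=
    fun g h t => smul_triple (pow_three_smul h) t
  -- eigenvectors for a nontrivial eigenvalue are killed
  have kill : ∀ (g : G) (t : V), (g • t = ω • t ∧ g • ω • t = ω • ω • t) ∨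
      (g • t = ω • ω • t ∧ g • ω • ω • t = ω • t) → t * g • t * g • g • t = 1 := by
    rintro g t (⟨e, e'⟩ | ⟨e, e'⟩) <;> rw [e, e']
    · exact htr t
    · rw [mul_assoc, mul_comm (ω • ω • t), ← mul_assoc]; exact htr t
  have keep : ∀ (g : G) (t : V), t ∈ fix (V := V) g → t * g • t * g • g • t = t := by
    intro g t ht
    rw [mem_fix.1 ht, mem_fix.1 ht, h2, one_mul]
  let e : G → V →* V := fun g =>
    { toFun := fun t => t * g • t * g • g • t
      map_one' := by simp only [smul_one, one_mul]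
      map_mul' := fun s t => by simp only [smul_mul']; ac_rfl }
  -- the action of `v` on the eigenspaces
  have b1 : ∀ t ∈ fix (V := V) (ω * v), v • t = ω • ω • t := fun t ht => by
    rw [mem_fix, mul_smul] at ht
    conv_rhs => rw [← ht]
    rw [hω3]
  have b2 : ∀ t ∈ fix (V := V) (ω * (ω * v)), v • t = ω • t := fun t ht => by
    rw [mem_fix, mul_smul, mul_smul] at ht
    conv_rhs => rw [← ht]
    rw [hω3]
  have z0a : ∀ t ∈ fix (V := V) (ω * v), e v t = 1 := fun t ht =>
    kill v t (Or.inr ⟨b1 t ht, by simp only [hc', b1 t ht, hω3]⟩)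
  have z0b : ∀ t ∈ fix (V := V) (ω * (ω * v)), e v t = 1 := fun t ht =>
    kill v t (Or.inl ⟨b2 t ht, by simp only [hc', b2 t ht]⟩)
  have z1a : ∀ t ∈ fix (V := V) v, e (ω * v) t = 1 := fun t ht =>
    kill _ t (Or.inl ⟨by rw [mul_smul, mem_fix.1 ht], by rw [mul_smul, hc', mem_fix.1 ht]⟩)
  have z1b : ∀ t ∈ fix (V := V) (ω * (ω * v)), e (ω * v) t = 1 := fun t ht =>
    kill _ t (Or.inr ⟨by rw [mul_smul, b2 t ht],
      by simp only [mul_smul, hc', b2 t ht, hω3]⟩)
  have hsplit : ∀ t : V, t = e v t * e (ω * v) t * e (ω * (ω * v)) t := by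
    intro t
    simp only [e, MonoidHom.coe_mk, OneHom.coe_mk, mul_smul, hc', hω3]
    symm
    calc t * v • t * v • v • t * (t * ω • v • t * ω • ω • v • v • t) *
          (t * ω • ω • v • t * ω • v • v • t)
        = (t * t) * t * ((v • t * ω • v • t * ω • ω • v • t) *
            (v • v • t * ω • v • v • t * ω • ω • v • v • t)) := by ac_rfl
      _ = t := by rw [htr, htr, h2, one_mul, mul_one, mul_one]
  let Φ : fix (V := V) v × fix (V := V) (ω * v) × fix (V := V) (ω * (ω * v)) → V :=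
    fun p => p.1 * p.2.1 * p.2.2
  have hbij : Function.Bijective Φ := by
    refine ⟨fun p q h => ?_, fun t => ⟨(⟨_, hT v hv t⟩, ⟨_, hT _ g1 t⟩, ⟨_, hT _ g2 t⟩),
      (hsplit t).symm⟩⟩
    have h0 := congrArg (e v) h
    have h1 := congrArg (e (ω * v)) h
    simp only [Φ, map_mul, z0a _ p.2.1.2, z0b _ p.2.2.2, z0a _ q.2.1.2, z0b _ q.2.2.2,
      mul_one] at h0
    simp only [Φ, map_mul, z1a _ p.1.2, z1b _ p.2.2.2, z1a _ q.1.2, z1b _ q.2.2.2,
      one_mul, mul_one] at h1
    have a0 : (p.1 : V) = q.1 := by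
      have := h0; simp only [e, MonoidHom.coe_mk, OneHom.coe_mk] at this
      rwa [keep v _ p.1.2, keep v _ q.1.2] at this
    have a1 : (p.2.1 : V) = q.2.1 := by
      have := h1; simp only [e, MonoidHom.coe_mk, OneHom.coe_mk] at this
      rwa [keep _ _ p.2.1.2, keep _ _ q.2.1.2] at this
    have a2 : (p.2.2 : V) = q.2.2 := by
      simp only [Φ, a0, a1] at h
      exact mul_left_cancel h
    exact Prod.ext (Subtype.ext a0) (Prod.ext (Subtype.ext a1) (Subtype.ext a2))
  have f1 : Nat.card (fix (V := V) (ω * v)) = Nat.card (fix (V := V) v) :=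
    hw ▸ card_fix_conj w v
  have f2 : Nat.card (fix (V := V) (ω * (ω * v))) = Nat.card (fix (V := V) v) := by
    rw [show ω * (ω * v) = w * (ω * v) * w⁻¹ by
      rw [← mul_assoc w, hwω, mul_assoc, mul_assoc, ← mul_assoc w, hw], card_fix_conj, f1]
  have hV : Nat.card V = Nat.card (fix (V := V) v) ^ 3 := by
    rw [← Nat.card_congr (Equiv.ofBijective Φ hbij), Nat.card_prod, Nat.card_prod, f1, f2,
      pow_three]
  refine ⟨hV, ?_, f1, f2, fun t => ⟨_, hT v hv t, _, hT _ g1 t, _, hT _ g2 t, hsplit t⟩⟩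
  have h := card_fix_mul_card_range h2 (V := V) v
  rw [hV, pow_succ' _ 2] at h
  exact Nat.eq_of_mul_eq_mul_left Nat.card_pos h

end Cfsg.Agent.LineBlocks
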