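import Cfsg.Agent.EqLemmas
import Mathlib.GroupTheory.GroupAction.Quotient

/-!
# A group of odd order acting on a group of order nine fixes a nontrivial element
-/

set_option autoImplicit false

namespace Cfsg.Agent.LineBlocks

theorem exists_fixed_of_card_nine {G Q : Type*} [Group G] [Finite G] [Group Q]
    (hG : Odd (Nat.card G)) (φ : G →* MulAut Q) (hQ : Nat.card Q = 9) :
    ∃ t : Q, t ≠ 1 ∧ ∀ g, φ g t = t := by
  classical
  have : Finite Q := Nat.finite_of_card_ne_zero (by omega)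
  let _act : MulAction G Q := MulAction.compHom Q φ
  have hsmul : ∀ (g : G) (t : Q), g • t = φ g t := fun _ _ => rfl
  by_contra hno
  push Not at hno
  have hodd : ∀ t : Q, t ≠ 1 → Odd (MulAction.orbit G t).ncard ∧ 3 ≤ (MulAction.orbit G t).ncard := by
    intro t ht
    have hdvd : (MulAction.orbit G t).ncard ∣ Nat.card G := by
      rw [← Nat.card_coe_set_eq, Nat.card_congr (MulAction.orbitEquivQuotientStabilizer G t)]
      exact Subgroup.card_quotient_dvd_card _
    have ho := hG.of_dvd_nat hdvd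
    refine ⟨ho, ?_⟩
    have h0 : 0 < (MulAction.orbit G t).ncard :=
      (Set.ncard_pos (Set.toFinite _)).2 ⟨t, MulAction.mem_orbit_self t⟩
    have h1 : (MulAction.orbit G t).ncard ≠ 1 := by
      intro h1
      obtain ⟨a, ha⟩ := Set.ncard_eq_one.1 h1
      obtain ⟨g, hg⟩ := hno t ht
      have e1 : t ∈ ({a} : Set Q) := ha ▸ MulAction.mem_orbit_self t
      have e2 : g • t ∈ ({a} : Set Q) := ha ▸ MulAction.mem_orbit t g
      exact hg ((hsmul g t).symm.trans (e2.trans e1.symm))
    obtain ⟨k, hk⟩ := ho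
    omega
  have hinv : ∀ (t : Q), MulAction.orbit G t⁻¹ = (·⁻¹) '' MulAction.orbit G t := by
    intro t; ext s
    constructor
    · rintro ⟨g, rfl⟩
      exact ⟨g • t, MulAction.mem_orbit t g, by simp [hsmul]⟩
    · rintro ⟨_, ⟨g, rfl⟩, rfl⟩
      exact ⟨g, by simp [hsmul]⟩
  have hne : ∀ t : Q, t ≠ 1 → t⁻¹ ∉ MulAction.orbit G t := by
    rintro t ht ⟨g, hg⟩
    have hg2 : g ^ 2 • t = t := by
      rw [pow_two, mul_smul, show g • t = t⁻¹ from hg, hsmul, map_inv, ← hsmul,
        show g • t = t⁻¹ from hg, inv_inv]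
    obtain ⟨k, hk⟩ : Odd (orderOf g) := hG.of_dvd_nat (orderOf_dvd_natCard g)
    have hgt : g • t = t := by
      have e : (g ^ 2) ^ (k + 1) = g := by
        rw [← pow_mul, show 2 * (k + 1) = orderOf g + 1 by omega, pow_succ, pow_orderOf_eq_one,
          one_mul]
      have : g ^ 2 ∈ MulAction.stabilizer G t := hg2
      have := pow_mem this (k + 1)
      rwa [e] at this
    have htt : t * t = 1 := by
      have : t⁻¹ = t := (show g • t = t⁻¹ from hg).symm.trans hgt
      nth_rw 1 [← this]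
      exact inv_mul_cancel t
    have h9 : orderOf t ∣ 2 := orderOf_dvd_of_pow_eq_one (by rw [pow_two, htt])
    have h9' : orderOf t ∣ 9 := hQ ▸ orderOf_dvd_natCard t
    exact ht (orderOf_eq_one_iff.1 (Nat.eq_one_of_dvd_coprimes (by norm_num) h9 h9'))
  have hone : ∀ t : Q, t ≠ 1 → (1 : Q) ∉ MulAction.orbit G t := by
    rintro t ht ⟨g, hg⟩
    exact ht ((φ g).injective ((hg : φ g t = 1).trans (map_one _).symm))
  obtain ⟨t, ht⟩ : ∃ t : Q, t ≠ 1 := by
    have : Nontrivial Q := Finite.one_lt_card_iff_nontrivial.1 (by omega)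
    exact exists_ne 1
  set A := MulAction.orbit G t
  set B := MulAction.orbit G t⁻¹
  have hdisj : ∀ a b : Q, a ∉ MulAction.orbit G b →
      Disjoint (MulAction.orbit G b) (MulAction.orbit G a) := fun a b hab => by
    rw [Set.disjoint_left]
    intro s h1 h2
    apply hab
    rw [← MulAction.orbit_eq_iff.2 h1, MulAction.orbit_eq_iff.2 h2]
    exact MulAction.mem_orbit_self a
  have hAB : Disjoint A B := hdisj _ _ (hne t ht)
  have hBc : B.ncard = A.ncard := by
    rw [show B = (·⁻¹) '' A from hinv t, Set.ncard_image_of_injective _ inv_injective]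
  have hU : (A ∪ B).ncard = A.ncard + B.ncard := Set.ncard_union_eq hAB
  obtain ⟨hAo, hA3⟩ : Odd A.ncard ∧ 3 ≤ A.ncard := hodd t ht
  have hsub : A ∪ B ⊆ ({1} : Set Q)ᶜ := by
    rintro s (hs | hs) (rfl : s = 1)
    · exact hone t ht hs
    · exact hone _ (inv_ne_one.2 ht) hs
  have hc : (({1} : Set Q)ᶜ).ncard = 8 := by
    rw [Set.ncard_compl, Set.ncard_singleton, hQ]
  obtain ⟨s, hs1, hs⟩ : ∃ s ∈ ({1} : Set Q)ᶜ, s ∉ A ∪ B := by
    refine Set.exists_mem_notMem_of_ncard_lt_ncard ?_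
    have := Set.ncard_le_ncard hsub
    rw [hU, hBc, hc] at this
    rw [hU, hBc, hc]
    obtain ⟨k, hk⟩ := hAo
    omega
  have hs3 := (hodd s hs1).2
  have hd : Disjoint (A ∪ B) (MulAction.orbit G s) :=
    Set.disjoint_union_left.2 ⟨hdisj _ _ fun h => hs (Or.inl h), hdisj _ _ fun h => hs (Or.inr h)⟩
  have hle := Set.ncard_le_ncard (Set.union_subset hsub
    (fun r hr (h : r = 1) => hone s hs1 (h ▸ hr) : MulAction.orbit G s ⊆ ({1} : Set Q)ᶜ))
  rw [Set.ncard_union_eq hd, hU, hBc, hc] at hle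
  omega

end Cfsg.Agent.LineBlocks
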