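import Cfsg.Agent.Lib.LineBlocks.Eigen
import Cfsg.Agent.Lib.LineBlocks.OddNine
import Mathlib.GroupTheory.Solvable
import Mathlib.GroupTheory.SpecificGroups.ZGroup

/-!
# The primitive case: `|V| ≤ 8`

An odd order soluble group acting faithfully on an elementary abelian 2-group `V`, all abelian normal
subgroups acting fixed point freely, containing an element of order three with commutator of order four.
-/

set_option autoImplicit false

open Subgroup
open scoped commutatorElement

namespace Cfsg.Agent.LineBlocks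

theorem four_cases {G V : Type*} [Group G] [CommGroup V] [MulDistribMulAction G V] [Finite V]
    {ω : G} (hω : ω ^ 3 = 1) (hωf : Fpf V ω) {U : Subgroup V} (hU : Nat.card U = 4)
    (hUi : ∀ t ∈ U, ω • t ∈ U) {e : V} (he : e ∈ U) (he1 : e ≠ 1) {f : V} (hf : f ∈ U) :
    f = 1 ∨ f = e ∨ f = ω • e ∨ f = ω • ω • e := by
  classical
  have h3 := pow_three_smul (V := V) hω
  have o : ∀ s : V, s ≠ 1 → ω • s ≠ 1 := fun s hs h =>
    hs (smul_left_cancel ω (h.trans (smul_one ω).symm))
  have n1 : ω • e ≠ e := fun h => he1 (hωf e h)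
  have n2 : ω • ω • e ≠ ω • e := fun h => n1 (smul_left_cancel ω h)
  have n3 : ω • ω • e ≠ e := fun h => n1 (by rw [← congrArg (ω • ·) h, h3])
  set s : Finset V := {1, e, ω • e, ω • ω • e} with hs
  have hsc : s.card = 4 := by
    rw [hs, Finset.card_insert_of_notMem
        (by simp [Ne.symm he1, Ne.symm (o e he1), Ne.symm (o _ (o e he1))]),
      Finset.card_insert_of_notMem (by simp [Ne.symm n1, Ne.symm n3]),
      Finset.card_insert_of_notMem (by simp [Ne.symm n2]), Finset.card_singleton]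
  have hsub : (s : Set V) ⊆ (U : Set V) := by
    intro y hy
    simp only [hs, Finset.coe_insert, Finset.coe_singleton, Set.mem_insert_iff,
      Set.mem_singleton_iff] at hy
    rcases hy with rfl | rfl | rfl | rfl
    · exact one_mem _
    · exact he
    · exact hUi _ he
    · exact hUi _ (hUi _ he)
  have heq := Set.eq_of_subset_of_ncard_le hsub (by
    rw [Set.ncard_coe_finset, hsc, ← Nat.card_coe_set_eq]; exact hU.le) (Set.toFinite _)
  have : f ∈ (s : Set V) := heq ▸ hf
  simpa [hs] using this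

section Aux

variable {G : Type*} [Group G] {K : Subgroup G}

theorem comm_mul_right {c : G} (hcen : ∀ a ∈ K, ∀ b ∈ K, ∀ k ∈ K, ⁅a, b⁆ * k = k * ⁅a, b⁆)
    (hc : c ∈ K) {s t : G} (hs : s ∈ K) (ht : t ∈ K) : ⁅c, s * t⁆ = ⁅c, s⁆ * ⁅c, t⁆ := by
  have h : ⁅c, s * t⁆ = ⁅c, s⁆ * (s * ⁅c, t⁆ * s⁻¹) := by
    simp only [commutatorElement_def]; group
  rw [h, ← hcen c hc t ht s hs, mul_inv_cancel_right]

theorem exists_pow_mem_zpowers_of_card {Z : Subgroup G} [Finite G] (hZ : Nat.card Z ≤ 3) {a b : G}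
    (ha : a ∈ Z) (ha1 : a ≠ 1) (hb : b ∈ Z) : ∃ j : ℕ, a ^ j = b := by
  have hle : zpowers a ≤ Z := zpowers_le.2 ha
  have heq : zpowers a = Z := by
    refine eq_of_le_of_card_ge hle ?_
    have hd := Subgroup.card_dvd_of_le hle
    have h1 : Nat.card (zpowers a) ≠ 1 := fun h => ha1 (by
      rw [Subgroup.card_eq_one] at h
      exact mem_bot.1 (h ▸ mem_zpowers a))
    have h0 : 0 < Nat.card (zpowers a) := Nat.card_pos
    rcases (Nat.le_of_dvd Nat.card_pos hd).eq_or_lt with h | h
    · exact h.ge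
    · interval_cases Nat.card Z <;> interval_cases Nat.card (zpowers a) <;> omega
  exact (isOfFinOrder_of_finite a).mem_powers_iff_mem_zpowers.2 (heq ▸ hb)

end Aux

variable {G : Type*} [Group G] [Finite G] {V : Type*} [CommGroup V] [Finite V]
  [MulDistribMulAction G V] [FaithfulSMul G V]

/-- Every nontrivial element of an abelian normal subgroup is fixed point free. -/
def FpfAbelianNormals (G V : Type*) [Group G] [CommGroup V] [MulDistribMulAction G V] : Prop :=
  ∀ A : Subgroup G, A.Normal → (∀ a ∈ A, ∀ b ∈ A, a * b = b * a) → ∀ a ∈ A, a ≠ 1 → Fpf V a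

variable (h2 : ∀ t : V, t * t = 1) (hG : Odd (Nat.card G)) {x : G} (hx : x ^ 3 = 1)
  (hD : Nat.card (mv (V := V) x).range = 4) (hP : FpfAbelianNormals G V) (hV : 8 < Nat.card V)
include h2 hG hx hD hP hV

omit hG hx hD hP hV [FaithfulSMul G V] [Finite G] in
theorem card_eq_two_pow (U : Subgroup V) : ∃ k, Nat.card U = 2 ^ k :=
  (IsPGroup.iff_card (p := 2)).1 fun t => ⟨1, Subtype.ext (by simpa [pow_two] using h2 t)⟩

omit hx hP hG [FaithfulSMul G V] [Finite G] in
theorem card_eq_sixteen_of_fpf {a : G} (hf : Fpf V (x * a * x⁻¹ * a⁻¹)) : Nat.card V = 16 := by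
  have h := card_range_commutator_le h2 (V := V) x a
  rw [card_range_of_fpf h2 hf, hD] at h
  obtain ⟨k, hk⟩ := card_eq_two_pow h2 (⊤ : Subgroup V)
  rw [Subgroup.card_top] at hk
  rw [hk] at h hV ⊢
  have h1 : 3 < k := (Nat.pow_lt_pow_iff_right (by norm_num : 1 < 2)).1
    (lt_of_le_of_lt (by norm_num) hV)
  have h3 : k ≤ 4 := (Nat.pow_le_pow_iff_right (by norm_num : 1 < 2)).1 (h.trans (by norm_num))
  rw [show k = 4 by omega]
  norm_num

omit [FaithfulSMul G V] hG in
theorem commutes_abelian_normal {A : Subgroup G} [hAn : A.Normal]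
    (hAc : ∀ a ∈ A, ∀ b ∈ A, a * b = b * a) {a : G} (ha : a ∈ A) : x * a = a * x := by
  by_contra hne
  set c := x * a * x⁻¹ * a⁻¹
  have hc : c ∈ A := A.mul_mem (hAn.conj_mem a ha x) (A.inv_mem ha)
  have hc1 : c ≠ 1 := fun h => hne (by
    have := congrArg (· * (a * x)) h
    simpa [c, mul_assoc] using this)
  have h16 := card_eq_sixteen_of_fpf h2 hD hV (hP A hAn hAc c hc hc1)
  have hdvd := card_dvd_sub_one A (⊤ : Subgroup V) (fun _ _ _ _ => mem_top _) (hP A hAn hAc)
  rw [Subgroup.card_top, h16] at hdvd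
  let _cg : CommGroup A :=
    { (inferInstance : Group A) with mul_comm := fun p q => Subtype.ext (hAc p p.2 q q.2) }
  have hsq : Squarefree (Nat.card A) := Squarefree.squarefree_of_dvd hdvd (by decide +kernel)
  have : IsZGroup A := IsZGroup.of_squarefree hsq
  have : IsCyclic A := IsCyclic.of_exponent_eq_card (IsZGroup.exponent_eq_card A)
  obtain ⟨b, hb⟩ := IsCyclic.exists_monoid_generator (α := A)
  obtain ⟨i, hi⟩ := Submonoid.mem_powers_iff _ _ |>.1 (hb ⟨a, ha⟩)
  obtain ⟨k, hk⟩ := Submonoid.mem_powers_iff _ _ |>.1 (hb ⟨x * b * x⁻¹, hAn.conj_mem b b.2 x⟩)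
  have hk' : x * (b : G) * x⁻¹ = (b : G) ^ k := by
    have := congrArg (fun q : A => (q : G)) hk
    simpa using this.symm
  set d := (b : G) with hd
  have hstep : ∀ m : ℕ, x * d ^ m * x⁻¹ = d ^ (k * m) := fun m => by
    rw [← conj_pow, hk', pow_mul]
  have h3 : d ^ (k * (k * k)) = d := by
    rw [← hstep, ← hstep, ← hk']
    have : x * x * x = 1 := by rw [← hx, pow_three, mul_assoc]
    calc x * (x * (x * d * x⁻¹) * x⁻¹) * x⁻¹ = (x * x * x) * d * (x * x * x)⁻¹ := by group
      _ = d := by rw [this, one_mul, inv_one, mul_one]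
  have h15 : orderOf d ∣ 15 := by
    rw [hd, orderOf_coe]
    exact orderOf_dvd_natCard b |>.trans hdvd
  nth_rw 2 [← pow_one d] at h3
  rw [pow_eq_pow_iff_modEq, Nat.ModEq] at h3
  have hkey : k % orderOf d = 1 % orderOf d := by
    generalize orderOf d = n at h3 h15
    have hn : n ≤ 15 := Nat.le_of_dvd (by norm_num) h15
    have hn0 : 0 < n := Nat.pos_of_dvd_of_pos h15 (by norm_num)
    have hlt := Nat.mod_lt k hn0
    rw [Nat.mul_mod, Nat.mul_mod k k n] at h3
    generalize k % n = r at h3 hlt ⊢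
    interval_cases n <;> first | omega | (interval_cases r <;> simp_all)
  have hb1 : x * d * x⁻¹ = d := by
    rw [hk']; nth_rw 2 [← pow_one d]
    rw [pow_eq_pow_iff_modEq]; exact hkey
  have hai : a = d ^ i := by
    have := congrArg (fun q : A => (q : G)) hi
    simpa using this.symm
  apply hne
  rw [hai, ← mul_inv_eq_iff_eq_mul, ← conj_pow, hb1]

omit [FaithfulSMul G V] hG in
theorem abelian_normal_small {A : Subgroup G} [hAn : A.Normal]
    (hAc : ∀ a ∈ A, ∀ b ∈ A, a * b = b * a) :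
    (∀ a ∈ A, a ^ 3 = 1) ∧ Nat.card A ≤ 3 := by
  have hx' : ∀ t : V, x • x • x • t = t := pow_three_smul hx
  have hne : (mv (V := V) x).range ≠ ⊥ := fun h => by simp [h] at hD
  obtain ⟨d, hd, hd1⟩ := (Subgroup.bot_or_exists_ne_one _).resolve_left hne
  have hcomm : ∀ a ∈ A, ∀ t : V, a • x • t = x • a • t := fun a ha t => by
    rw [← mul_smul, ← commutes_abelian_normal h2 hx hD hP hV hAc ha, mul_smul]
  have hmem : ∀ a ∈ A, ∀ e ∈ (mv (V := V) x).range, a • e ∈ (mv (V := V) x).range := by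
    rintro a ha _ ⟨t, rfl⟩
    exact ⟨a • t, by simp only [mv_apply, smul_mul', hcomm a ha]⟩
  have hf : ∀ a ∈ A, a • d = d → a = 1 := fun a ha h => by
    by_contra ha1
    exact hd1 (hP A hAn hAc a ha ha1 d h)
  have hcase : ∀ a ∈ A, a • d = d ∨ a • d = x • d ∨ a • d = x • x • d := fun a ha =>
    (range_cases h2 hx' hD hd hd1 (hmem a ha d hd)).resolve_left
      fun h => hd1 (smul_left_cancel a (h.trans (smul_one a).symm))
  refine ⟨fun a ha => hf _ (pow_mem ha 3) ?_, ?_⟩
  · rw [pow_three, mul_smul, mul_smul]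
    rcases hcase a ha with h | h | h <;> simp only [h, hcomm a ha, hx']
  · classical
    have hcard : ((fun a : G => a • d) '' (A : Set G)).ncard = Nat.card A := by
      rw [Set.InjOn.ncard_image, ← Nat.card_coe_set_eq]
      · rfl
      · intro a ha b hb h
        have := hf (b⁻¹ * a) (A.mul_mem (A.inv_mem hb) ha) (by
          rw [mul_smul, show a • d = b • d from h, inv_smul_smul])
        exact (inv_mul_eq_one.1 this).symm
    rw [← hcard]
    refine (Set.ncard_le_ncard (t := (({d, x • d, x • x • d} : Finset V) : Set V)) ?_).trans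
      (by rw [Set.ncard_coe_finset]; exact Finset.card_le_three)
    rintro _ ⟨a, ha, rfl⟩
    simpa using hcase a ha

theorem not_nonabelian {K : Subgroup G} [hKn : K.Normal] {Z : Subgroup G} [hZn : Z.Normal]
    (hZK : Z ≤ K) (hZ3 : Nat.card Z ≤ 3)
    (hZm : ∀ t : G, t ∈ Z ↔ t ∈ K ∧ ∀ k ∈ K, t * k = k * t)
    (hcomm : ∀ a ∈ K, ∀ b ∈ K, ⁅a, b⁆ ∈ Z)
    {u : G} (hu : u ∈ K) (hxu : x * u ≠ u * x) (hnab : ∃ a ∈ K, ∀ b, b ∈ Z → b ≠ a) : False := by
  have hZc : ∀ a ∈ Z, ∀ b ∈ Z, a * b = b * a := fun a ha b hb => ((hZm a).1 ha).2 b (hZK hb)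
  have hZe : ∀ a ∈ Z, a ^ 3 = 1 :=
    (abelian_normal_small h2 hx hD hP hV (A := Z) hZc).1
  have hZf : ∀ a ∈ Z, a ≠ 1 → Fpf V a := hP Z hZn hZc
  have hcen : ∀ a ∈ K, ∀ b ∈ K, ∀ k ∈ K, ⁅a, b⁆ * k = k * ⁅a, b⁆ := fun a ha b hb =>
    ((hZm _).1 (hcomm a ha b hb)).2
  have hcube : ∀ v ∈ K, v ^ 3 ∈ Z := by
    intro v hv
    rw [hZm]
    refine ⟨K.pow_mem hv 3, fun k hk => ?_⟩
    have hpow : ⁅k, v ^ 3⁆ = 1 := by
      rw [pow_three, comm_mul_right hcen hk hv (K.mul_mem hv hv), comm_mul_right hcen hk hv hv,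
        ← pow_three, hZe _ (hcomm k hk v hv)]
    exact (commutatorElement_eq_one_iff_mul_comm.1 hpow).symm
  -- data for an element outside `Z`
  have hdata : ∀ v ∈ K, v ∉ Z → ∃ w ω : G, w ∈ K ∧ ω ∈ Z ∧ ω ≠ 1 ∧ ω ^ 3 = 1 ∧ Fpf V ω ∧
      v * ω = ω * v ∧ w * v * w⁻¹ = ω * v ∧ w * ω = ω * w := by
    intro v hv hvZ
    rw [hZm] at hvZ
    simp only [hv, true_and, not_forall] at hvZ
    obtain ⟨w, hw, hvw⟩ := hvZ
    have hω1 : ⁅w, v⁆ ≠ 1 := fun h => hvw (commutatorElement_eq_one_iff_mul_comm.1 h).symm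
    refine ⟨w, ⁅w, v⁆, hw, hcomm w hw v hv, hω1, hZe _ (hcomm w hw v hv),
      hZf _ (hcomm w hw v hv) hω1, (hcen w hw v hv v hv).symm, ?_, (hcen w hw v hv w hw).symm⟩
    simp only [commutatorElement_def]; group
  -- `|V| = 16` is impossible
  have h16 : Nat.card V ≠ 16 := by
    intro hV16
    obtain ⟨v, hv, hvb⟩ := hnab
    have hvZ : v ∉ Z := fun h => hvb v h rfl
    by_cases hv3 : v ^ 3 = 1
    · obtain ⟨w, ω, -, hωZ, hω1, hω3, hωf, hc, hw, hwω⟩ := hdata v hv hvZ
      obtain ⟨hcard, -, -, -, -⟩ := eigen h2 hv3 hω3 hωf hc hw hwω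
      obtain ⟨k, hk⟩ := card_eq_two_pow h2 (fix (V := V) v)
      rw [hV16, hk, ← pow_mul, show (16 : ℕ) = 2 ^ 4 from rfl] at hcard
      have := Nat.pow_right_injective (le_refl 2) hcard
      omega
    · have hA : ∀ a ∈ zpowers v, a ≠ 1 → Fpf V a := by
        intro a ha ha1 t hat
        obtain ⟨n, rfl⟩ := (isOfFinOrder_of_finite v).mem_powers_iff_mem_zpowers.2 ha
        simp only at hat ha1
        rcases Nat.lt_or_ge (n % 3) 1 with hn | hn
        · have : v ^ n ∈ Z := by
            rw [show n = 3 * (n / 3) by omega, pow_mul]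
            exact Z.pow_mem (hcube v hv) _
          exact hZf _ this ha1 t hat
        · refine hZf _ (hcube v hv) hv3 t ?_
          have hm : v ^ n ∈ MulAction.stabilizer G t := hat
          have h9 : v ^ 9 = 1 := by
            rw [show 9 = 3 * 3 from rfl, pow_mul]; exact hZe _ (hcube v hv)
          rcases (show n % 3 = 1 ∨ n % 3 = 2 by omega) with hr | hr
          · have e : v ^ 3 = (v ^ n) ^ 3 := by
              rw [← pow_mul, show n * 3 = 9 * (n / 3) + 3 by omega, pow_add, pow_mul, h9, one_pow,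
                one_mul]
            rw [e]; exact pow_mem hm 3
          · have e : v ^ 3 = (v ^ n) ^ 6 := by
              rw [← pow_mul, show n * 6 = 9 * (2 * (n / 3) + 1) + 3 by omega, pow_add, pow_mul, h9,
                one_pow, one_mul]
            rw [e]; exact pow_mem hm 6
      have hd := card_dvd_sub_one (zpowers v) (⊤ : Subgroup V) (fun _ _ _ _ => mem_top _) hA
      rw [Subgroup.card_top, hV16, Nat.card_zpowers,
        orderOf_eq_prime_pow (p := 3) (n := 1) (by simpa using hv3)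
          (show v ^ (3 ^ (1 + 1)) = 1 by
            rw [show (3 : ℕ) ^ (1 + 1) = 3 * 3 by norm_num, pow_mul]; exact hZe _ (hcube v hv))] at hd
      norm_num at hd
  -- the commutator `c` has order three and is not fixed point free
  set c := x * u * x⁻¹ * u⁻¹ with hcdef
  have hcK : c ∈ K := K.mul_mem (hKn.conj_mem u hu x) (K.inv_mem hu)
  have hc1 : c ≠ 1 := fun h => hxu (by
    have := congrArg (· * (u * x)) h
    simpa [c, mul_assoc] using this)
  have hnf : ¬ Fpf V c := fun hf => h16 (card_eq_sixteen_of_fpf h2 hD hV hf)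
  have hcZ : c ∉ Z := fun h => hnf (hZf c h hc1)
  have hc3 : c ^ 3 = 1 := by
    by_contra h
    refine hnf fun t ht => hZf _ (hcube c hcK) h t ?_
    rw [pow_three, mul_smul c (c * c) t, mul_smul c c t, ht, ht, ht]
  obtain ⟨w, ω, hwK, hωZ, hω1, hω3, hωf, hcω, hw, hwω⟩ := hdata c hcK hcZ
  obtain ⟨hcard, hrange, hf1, hf2, hgen⟩ := eigen h2 hc3 hω3 hωf hcω hw hwω
  have hf4 : Nat.card (fix (V := V) c) = 4 := by
    have h16' : Nat.card (mv (V := V) c).range ≤ 16 := by
      have := card_range_commutator_le h2 (V := V) x u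
      rwa [hD] at this
    rw [hrange] at h16'
    obtain ⟨k, hk⟩ := card_eq_two_pow h2 (fix (V := V) c)
    rw [hk] at h16' hcard ⊢
    have hk2 : k ≤ 2 := by
      rw [← pow_mul] at h16'
      have := (Nat.pow_le_pow_iff_right (by norm_num : 1 < 2)).1 (h16'.trans_eq (show 16 = 2 ^ 4 by rfl))
      omega
    interval_cases k
    · simp at hcard; omega
    · norm_num at hcard; omega
    · rfl
  -- the centraliser of `c` in `K` is abelian
  have hab : ∀ s ∈ K, ∀ t ∈ K, s * c = c * s → t * c = c * t → s * t = t * s := by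
    intro s hs t ht hsc htc
    have hsω : ∀ r ∈ K, r * ω = ω * r := fun r hr => (((hZm ω).1 hωZ).2 r hr).symm
    have hstep : ∀ g : G, g ∈ K → g * ω = ω * g →
        Nat.card (fix (V := V) g) = 4 → s * g = g * s → t * g = g * t →
        ∀ e ∈ fix (V := V) g, s • t • e = t • s • e := by
      intro g hg hgω hgc hsg htg e he
      rcases eq_or_ne e 1 with rfl | he1
      · simp only [smul_one]
      have hUi : ∀ r ∈ fix (V := V) g, ω • r ∈ fix (V := V) g := fun r hr =>
        smul_mem_fix hgω.symm hr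
      have hcs := (four_cases hω3 hωf hgc hUi he he1 (smul_mem_fix hsg he)).resolve_left
        fun h => he1 (smul_left_cancel s (h.trans (smul_one s).symm))
      have hct := (four_cases hω3 hωf hgc hUi he he1 (smul_mem_fix htg he)).resolve_left
        fun h => he1 (smul_left_cancel t (h.trans (smul_one t).symm))
      have cs : ∀ r : V, s • ω • r = ω • s • r := fun r => by
        rw [← mul_smul, hsω s hs, mul_smul]
      have ct : ∀ r : V, t • ω • r = ω • t • r := fun r => by
        rw [← mul_smul, hsω t ht, mul_smul]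
      rcases hcs with a | a | a <;> rcases hct with b | b | b <;> simp only [a, b, cs, ct]
    have hcomm' : ∀ r : G, r * c = c * r → r * ω = ω * r → r * (ω * c) = ω * c * r := by
      intro r h1 h3; rw [← mul_assoc, h3, mul_assoc, h1, ← mul_assoc]
    have hcomm'' : ∀ r : G, r * c = c * r → r * ω = ω * r →
        r * (ω * (ω * c)) = ω * (ω * c) * r := by
      intro r h1 h3; rw [← mul_assoc, h3, mul_assoc, hcomm' r h1 h3, ← mul_assoc]
    have hωcK : ω * c ∈ K := K.mul_mem (hZK hωZ) hcK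
    refine eq_of_smul_eq_smul fun r : V => ?_
    obtain ⟨a, ha, b, hb, d, hd, rfl⟩ := hgen r
    simp only [mul_smul, smul_mul']
    rw [hstep c hcK hcω hf4 hsc htc a ha,
      hstep (ω * c) hωcK (hsω _ hωcK) (hf1.trans hf4) (hcomm' s hsc (hsω s hs))
        (hcomm' t htc (hsω t ht)) b hb,
      hstep (ω * (ω * c)) (K.mul_mem (hZK hωZ) hωcK) (hsω _ (K.mul_mem (hZK hωZ) hωcK))
        (hf2.trans hf4) (hcomm'' s hsc (hsω s hs)) (hcomm'' t htc (hsω t ht)) d hd]
  -- `K / Z` has order nine
  have hcw : ⁅c, w⁆ ≠ 1 := by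
    intro h
    apply hω1
    rwa [← commutatorElement_eq_one_iff_mul_comm.1 h, mul_inv_cancel_right, right_eq_mul] at hw
  let ψ : K →* Z.prod Z :=
    { toFun := fun t => ⟨(⁅c, (t : G)⁆, ⁅w, (t : G)⁆), hcomm c hcK t t.2, hcomm w hwK t t.2⟩
      map_one' := Subtype.ext (by simp)
      map_mul' := fun p q => Subtype.ext (Prod.ext
        (comm_mul_right hcen hcK p.2 q.2) (comm_mul_right hcen hwK p.2 q.2)) }
  have hker : ψ.ker = Z.subgroupOf K := by
    ext ⟨t, ht⟩
    simp only [MonoidHom.mem_ker, mem_subgroupOf]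
    constructor
    · intro h
      have h' := congrArg (fun p : Z.prod Z => (p : G × G)) h
      simp only [ψ, MonoidHom.coe_mk, OneHom.coe_mk, OneMemClass.coe_one, Prod.ext_iff,
        Prod.fst_one, Prod.snd_one] at h'
      have hcc := commutatorElement_eq_one_iff_mul_comm.1 h'.1
      have hwc := commutatorElement_eq_one_iff_mul_comm.1 h'.2
      refine (hZm t).2 ⟨ht, fun k hk => ?_⟩
      obtain ⟨j, hj⟩ := exists_pow_mem_zpowers_of_card hZ3 (hcomm c hcK w hwK) hcw
        (hcomm c hcK k hk)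
      have hpow : ∀ n : ℕ, ⁅c, w ^ n⁆ = ⁅c, w⁆ ^ n := by
        intro n
        induction n with
        | zero => simp
        | succ n ih => rw [pow_succ, comm_mul_right hcen hcK (K.pow_mem hwK n) hwK, ih, pow_succ]
      set r := (w ^ j)⁻¹ * k with hr
      have hrK : r ∈ K := K.mul_mem (K.inv_mem (K.pow_mem hwK j)) hk
      have hrc : ⁅c, r⁆ = 1 := by
        have := comm_mul_right hcen hcK (K.pow_mem hwK j) hrK
        rw [hr, mul_inv_cancel_left, hpow, hj, left_eq_mul] at this
        exact this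
      have htr : Commute t r :=
        hab t ht r hrK hcc.symm (commutatorElement_eq_one_iff_mul_comm.1 hrc).symm
      have hcm : Commute t (w ^ j * r) := (Commute.pow_right (show Commute t w from hwc.symm) j).mul_right htr
      rwa [hr, mul_inv_cancel_left] at hcm
    · intro h
      refine Subtype.ext (Prod.ext ?_ ?_)
      · exact commutatorElement_eq_one_iff_mul_comm.2 (((hZm t).1 h).2 c hcK).symm
      · exact commutatorElement_eq_one_iff_mul_comm.2 (((hZm t).1 h).2 w hwK).symm
  have hZcard : Nat.card Z = 3 := by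
    obtain ⟨k, hk⟩ := hG.of_dvd_nat Z.card_subgroup_dvd_card
    have : Nat.card Z ≠ 1 := fun h => hω1 (by
      rw [Subgroup.card_eq_one] at h
      exact mem_bot.1 (h ▸ hωZ))
    omega
  have hrange : Nat.card ψ.range = 9 := by
    have hd : Nat.card ψ.range ∣ 3 ^ 2 := by
      have := ψ.range.card_subgroup_dvd_card
      rwa [Nat.card_congr (Subgroup.prodEquiv Z Z).toEquiv, Nat.card_prod, hZcard,
        ← pow_two] at this
    obtain ⟨i, hi, hcard9⟩ := (Nat.dvd_prime_pow Nat.prime_three).1 hd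
    rcases (show i = 2 ∨ i < 2 by omega) with rfl | hi2
    · rw [hcard9]; norm_num
    exfalso
    have : IsCyclic ψ.range := by
      interval_cases i
      · have : Subsingleton ψ.range :=
          (Nat.card_eq_one_iff_unique.1 (by simpa using hcard9)).1
        exact isCyclic_of_subsingleton
      · exact isCyclic_of_prime_card (p := 3) (by simpa using hcard9)
    have hKc := ψ.rangeRestrict.isMulCommutative_of_isCyclic_of_ker_le_center (by
      rw [MonoidHom.ker_rangeRestrict, hker]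
      intro t ht
      exact mem_center_iff.2 fun k => Subtype.ext (((hZm t).1 ht).2 k k.2).symm)
    exact hcw (commutatorElement_eq_one_iff_mul_comm.2
      (congrArg Subtype.val (hKc.is_comm.comm ⟨c, hcK⟩ ⟨w, hwK⟩)))
  set N := Z.subgroupOf K with hN
  have hQ : Nat.card (K ⧸ N) = 9 := by
    rw [← hrange, ← Subgroup.index_eq_card, ← hker, Subgroup.index_ker]
  have hNmap : ∀ g : G, N.map (↑(MulAut.conjNormal g : MulAut K) : K →* K) = N := by
    intro g
    ext t
    rw [mem_map]
    constructor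
    · rintro ⟨r, hr, rfl⟩
      exact hZn.conj_mem _ hr g
    · intro ht
      refine ⟨(MulAut.conjNormal g : MulAut K).symm t, ?_, MulEquiv.apply_symm_apply _ _⟩
      rw [hN, mem_subgroupOf, MulAut.conjNormal_symm_apply]
      have := hZn.conj_mem _ ht g⁻¹
      rwa [inv_inv] at this
  let φ : G →* MulAut (K ⧸ N) :=
    MonoidHom.mk' (fun g => QuotientGroup.congr N N (MulAut.conjNormal g) (hNmap g)) fun g g' =>
      MulEquiv.ext fun q => QuotientGroup.induction_on q fun t => by
        simp [MulAut.mul_apply, map_mul]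
  obtain ⟨q, hq1, hq⟩ := exists_fixed_of_card_nine hG φ hQ
  revert hq1 hq
  refine QuotientGroup.induction_on q fun k hk1 hk => ?_
  rw [ne_eq, QuotientGroup.eq_one_iff, hN, mem_subgroupOf] at hk1
  set A := Z ⊔ zpowers (k : G) with hA
  have hAK : A ≤ K := sup_le hZK (zpowers_le.2 k.2)
  have hAk : A ≤ centralizer {(k : G)} := sup_le
    (fun z hz => mem_centralizer_singleton_iff.2 (((hZm z).1 hz).2 k k.2))
    (zpowers_le.2 (mem_centralizer_singleton_iff.2 rfl))
  have hAA : A ≤ centralizer (A : Set G) := sup_le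
    (fun z hz => mem_centralizer_iff.2 fun a ha => (((hZm z).1 hz).2 a (hAK ha)).symm)
    (zpowers_le.2 (mem_centralizer_iff.2 fun a ha => mem_centralizer_singleton_iff.1 (hAk ha)))
  have hAn : A.Normal := ⟨fun a ha g => by
    have hle : A.map (MulAut.conj g).toMonoidHom ≤ A := by
      rw [hA, Subgroup.map_sup, MonoidHom.map_zpowers]
      refine sup_le ?_ (zpowers_le.2 ?_)
      · rintro _ ⟨z, hz, rfl⟩
        exact mem_sup_left (hZn.conj_mem z hz g)
      · have h := hk g
        have h' : ((MulAut.conjNormal g k : K) : K ⧸ N) = k := h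
        rw [QuotientGroup.eq, hN, mem_subgroupOf] at h'
        have e : g * k * g⁻¹ = k * (((MulAut.conjNormal g k)⁻¹ * k : K) : G)⁻¹ := by
          simp [mul_assoc]
        show g * k * g⁻¹ ∈ A
        rw [e]
        exact A.mul_mem (mem_sup_right (mem_zpowers _)) (A.inv_mem (mem_sup_left h'))
    exact hle ⟨a, ha, rfl⟩⟩
  have hA3 := (abelian_normal_small h2 hx hD hP hV (A := A)
    fun a ha b hb => (mem_centralizer_iff.1 (hAA ha) b hb).symm).2
  have : Z = A := eq_of_le_of_card_ge le_sup_left (by rw [hZcard]; exact hA3)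
  exact hk1 (this ▸ mem_sup_right (mem_zpowers _))

omit hV in
theorem card_le_eight [hS : Group.IsSolvable G] : Nat.card V ≤ 8 := by
  by_contra hV
  push Not at hV
  have hx1 : x ≠ 1 := by
    rintro rfl
    have : (mv (V := V) (1 : G)).range = ⊥ := by
      rw [eq_bot_iff]; rintro _ ⟨t, rfl⟩
      simp [h2]
    simp [this] at hD
  set X := normalClosure ({x} : Set G)
  have hxX : x ∈ X := subset_normalClosure rfl
  by_cases hXc : ∀ a ∈ X, ∀ b ∈ X, a * b = b * a
  · have hf := card_range_of_fpf h2 (hP X normalClosure_normal hXc x hxX hx1)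
    omega
  set 𝒦 := {K : Subgroup G | K.Normal ∧ K ≤ X ∧ ¬ ∀ a ∈ K, ∀ b ∈ K, a * b = b * a}
  obtain ⟨K, ⟨hKn, hKX, hKnc⟩, hmin⟩ :=
    (Set.toFinite 𝒦).exists_minimal ⟨X, normalClosure_normal, le_rfl, hXc⟩
  have hKne : K ≠ ⊥ := fun h => hKnc fun a ha b hb => by simp_all
  have hlt : ⁅K, K⁆ < K := Group.IsSolvable.commutator_lt_of_ne_bot hKne
  have hXcen : ∀ A : Subgroup G, A.Normal → (∀ a ∈ A, ∀ b ∈ A, a * b = b * a) →
      X ≤ centralizer (A : Set G) := by
    intro A hAn hAc
    refine normalClosure_le_normal (Set.singleton_subset_iff.2 ?_)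
    exact mem_centralizer_iff.2 fun a ha =>
      (commutes_abelian_normal h2 hx hD hP hV (A := A) hAc ha).symm
  have hKKab : ∀ a ∈ ⁅K, K⁆, ∀ b ∈ ⁅K, K⁆, a * b = b * a := by
    by_contra h
    exact hlt.not_ge (hmin ⟨inferInstance, hlt.le.trans hKX, h⟩ hlt.le)
  set Z := K ⊓ centralizer (K : Set G)
  have hZm : ∀ t : G, t ∈ Z ↔ t ∈ K ∧ ∀ k ∈ K, t * k = k * t := fun t =>
    and_congr_right fun _ => mem_centralizer_iff.trans
      ⟨fun h k hk => (h k hk).symm, fun h k hk => (h k hk).symm⟩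
  have hZc : ∀ a ∈ Z, ∀ b ∈ Z, a * b = b * a := fun a ha b hb => ((hZm a).1 ha).2 b hb.1
  have hKK : ⁅K, K⁆ ≤ Z := fun t ht => ⟨hlt.le ht, mem_centralizer_iff.2 fun k hk =>
    (mem_centralizer_iff.1 (hXcen _ inferInstance hKKab (hKX hk)) t ht).symm⟩
  obtain ⟨u, hu, hxu⟩ : ∃ u ∈ K, x * u ≠ u * x := by
    by_contra h
    push Not at h
    refine hKnc fun a ha b hb => ?_
    have : X ≤ centralizer (K : Set G) := normalClosure_le_normal
      (Set.singleton_subset_iff.2 (mem_centralizer_iff.2 fun k hk => (h k hk).symm))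
    exact (mem_centralizer_iff.1 (this (hKX ha)) b hb).symm
  refine not_nonabelian h2 hG hx hD hP hV (K := K) (Z := Z) inf_le_left
    (abelian_normal_small h2 hx hD hP hV (A := Z) hZc).2 hZm
    (fun a ha b hb => hKK (commutator_mem_commutator ha hb)) hu hxu ?_
  by_contra h
  push Not at h
  refine hKnc fun a ha b hb => ?_
  obtain ⟨a', ha', rfl⟩ := h a ha
  exact ((hZm a').1 ha').2 b hb

end Cfsg.Agent.LineBlocks
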