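import Cfsg.Agent.Lib.LineBlocks.Blocks
import Cfsg.Agent.Lib.PGroup.RankTwoAut
import Cfsg.Agent.Lib.OddPrime.CentRank
import Cfsg.Prelude.Def_Transfer

/-!
# An elementary subgroup of order `r³` with a noncyclic centraliser of `[V, x]`
-/

set_option autoImplicit false

open Subgroup

namespace Cfsg.Agent.LineBlocks

variable {G : Type*} [Group G] [Finite G] {V : Type*} [CommGroup V] [Finite V]
  [MulDistribMulAction G V]

/-- The stabiliser of a subgroup. -/
def setStab (W : Subgroup V) : Subgroup G where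
  carrier := {b | ∀ v, v ∈ W ↔ b • v ∈ W}
  one_mem' := fun v => by simp
  mul_mem' := fun {a b} ha hb v => by rw [mul_smul, ← ha, ← hb]
  inv_mem' := fun {a} ha v => by
    have := ha (a⁻¹ • v)
    rw [smul_inv_smul] at this
    exact this.symm

omit [Finite G] in
theorem mem_setStab {W : Subgroup V} {b : G} (h : ∀ v ∈ W, b • v ∈ W) : b ∈ setStab W := by
  intro v
  refine ⟨h v, fun hv => ?_⟩
  obtain ⟨⟨u, hu⟩, he⟩ := (Finite.injective_iff_surjective.1
    (show Function.Injective (fun u : W => (⟨b • (u : V), h u u.2⟩ : W)) from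
      fun s t hst => Subtype.ext (smul_left_cancel b (congrArg Subtype.val hst)))) ⟨b • v, hv⟩
  rwa [← smul_left_cancel b (congrArg Subtype.val he : b • u = b • v)]

variable (h2 : ∀ t : V, t * t = 1)
include h2

/-- An elementary abelian `r`-group, `r` odd, acting faithfully on a group of order at most `8`
has order at most `r`. -/
theorem card_le_of_faithful {r : ℕ} (hr : r.Prime) (hr2 : r ≠ 2) [FaithfulSMul G V]
    (hV : Nat.card V ≤ 8) (hc : ∀ a b : G, a * b = b * a) (he : ∀ a : G, a ^ r = 1) :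
    Nat.card G ≤ r := by
  have hrf : Fact r.Prime := ⟨hr⟩
  have hr3 : 3 ≤ r := by have := hr.two_le; omega
  obtain ⟨n, hn⟩ := (IsPGroup.iff_card (p := r) (G := G)).1 fun a => ⟨1, by rw [pow_one, he]⟩
  rcases Nat.lt_or_ge n 2 with h | h
  · rw [hn]; interval_cases n <;> simp <;> omega
  exfalso
  have hfix : ∀ a : G, a ≠ 1 → Nat.card (fix (V := V) a) ≤ 2 := by
    intro a ha
    by_contra hle
    obtain ⟨k, hk⟩ := card_eq_two_pow h2 (fix (V := V) a)
    have hdiv := (fix (V := V) a).card_subgroup_dvd_card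
    obtain ⟨m, hm⟩ := card_eq_two_pow h2 (⊤ : Subgroup V)
    rw [Subgroup.card_top] at hm
    have hkm : k ≤ m := (Nat.pow_dvd_pow_iff_le_right (le_refl 2)).1 (hk ▸ hm ▸ hdiv)
    have hm3 : m ≤ 3 := (Nat.pow_le_pow_iff_right (le_refl 2)).1 (hm ▸ hV)
    have hk2 : 2 ≤ k := by
      by_contra hk2
      rw [hk] at hle; interval_cases k <;> simp at hle
    have hP : IsPGroup r (zpowers a) := IsPGroup.of_card_dvd_pow (n := 1) (by
      rw [Nat.card_zpowers, pow_one]; exact orderOf_dvd_of_pow_eq_one (he a))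
    have hmod := hP.card_modEq_card_fixedPoints V
    have e : MulAction.fixedPoints (zpowers a) V = (fix (V := V) a : Set V) := by
      ext t
      rw [MulAction.mem_fixedPoints, SetLike.mem_coe, mem_fix]
      refine ⟨fun h => h ⟨a, mem_zpowers a⟩, fun h b => ?_⟩
      have : zpowers a ≤ MulAction.stabilizer G t := zpowers_le.2 h
      exact this b.2
    rw [e] at hmod
    change Nat.card V ≡ Nat.card (fix (V := V) a) [MOD r] at hmod
    rw [hm, hk] at hmod
    rcases hkm.eq_or_lt with rfl | hlt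
    · have : fix (V := V) a = ⊤ := eq_top_of_card_eq _ (hk.trans hm.symm)
      exact ha (eq_of_smul_eq_smul fun t : V => by
        rw [one_smul]; exact (this ▸ mem_top t : t ∈ fix a))
    · have hk' : k = 2 := by omega
      have hm' : m = 3 := by omega
      subst hk' hm'
      have := (Nat.modEq_iff_dvd' (by norm_num)).1 hmod.symm
      norm_num at this
      have h4 : r ≤ 4 := Nat.le_of_dvd (by norm_num) this
      interval_cases r <;> first | omega | norm_num at hr
  have hsame : ∀ a b : G, a ≠ 1 → ∀ t : V, a • t = t → b • t = t := by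
    intro a b ha t ht
    rcases eq_or_ne t 1 with rfl | ht1
    · exact smul_one b
    have hb : b • t ∈ fix (V := V) a := smul_mem_fix (hc b a) (mem_fix.2 ht)
    by_contra hne
    have := hfix a ha
    have h3 : 2 < Nat.card (fix (V := V) a) := by
      classical
      have hsub : (({1, t, b • t} : Finset V) : Set V) ⊆ (fix (V := V) a : Set V) := by
        intro y hy
        simp only [Finset.coe_insert, Finset.coe_singleton, Set.mem_insert_iff,
          Set.mem_singleton_iff] at hy
        rcases hy with rfl | rfl | rfl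
        · exact one_mem _
        · exact ht
        · exact hb
      have := Set.ncard_le_ncard hsub (Set.toFinite _)
      rw [Set.ncard_coe_finset, ← Nat.card_coe_set_eq,
        Finset.card_insert_of_notMem, Finset.card_pair (Ne.symm hne)] at this
      · exact this
      · simp only [Finset.mem_insert, Finset.mem_singleton, not_or]
        exact ⟨Ne.symm ht1, fun e => ht1 (smul_left_cancel b (e.symm.trans (smul_one b).symm))⟩
    omega
  have hG2 : r ^ 2 ≤ Nat.card G := hn ▸ Nat.pow_le_pow_right hr.pos h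
  have hnt : Nontrivial G := Finite.one_lt_card_iff_nontrivial.1 (by nlinarith)
  obtain ⟨a, ha⟩ := exists_ne (1 : G)
  obtain ⟨t, ht⟩ : ∃ t : V, a • t ≠ t := by
    by_contra hall
    push Not at hall
    exact ha (eq_of_smul_eq_smul fun t : V => by rw [one_smul, hall t])
  have hinj : Function.Injective fun b : G => b • t := by
    intro b c hbc
    by_contra hne
    have hne' : c⁻¹ * b ≠ 1 := fun e => hne (inv_mul_eq_one.1 e).symm
    exact ht (hsame _ a hne' t (by rw [mul_smul, show b • t = c • t from hbc, inv_smul_smul]))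
  have := Nat.card_le_card_of_injective _ hinj
  nlinarith

omit [Finite G] in
/-- An elementary subgroup of order `r³` stabilising `W`, `|W| ≤ 8`, has a noncyclic intersection
with the centraliser of `W`. -/
theorem not_isCyclic_fixer {r : ℕ} (hr : r.Prime) (hr2 : r ≠ 2) {W : Subgroup V}
    (hW : Nat.card W ≤ 8) {F : Subgroup G} (hF : Cfsg.IsElementaryAbelian r F)
    (hF3 : Nat.card F = r ^ 3) (hFW : F ≤ setStab W) {C : Subgroup G}
    (hC : ∀ f ∈ F, (∀ w ∈ W, f • w = w) → f ∈ C) : ¬ IsCyclic ↥(F ⊓ C) := by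
  let _act : MulDistribMulAction F W :=
    { smul := fun g t => ⟨(g : G) • (t : V), (hFW g.2 t).1 t.2⟩
      one_smul := fun t => Subtype.ext (one_smul G (t : V))
      mul_smul := fun a b t => Subtype.ext (mul_smul (a : G) b (t : V))
      smul_mul := fun a s t => Subtype.ext (smul_mul' (a : G) (s : V) t)
      smul_one := fun a => Subtype.ext (smul_one (a : G)) }
  let φ := MulDistribMulAction.toMulAut F W
  have hcomm : ∀ a b : F, a * b = b * a := hF.1.is_comm.comm
  have hexp : ∀ a : F, a ^ r = 1 := fun a => Subtype.ext (hF.2 a a.2)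
  have hle : Nat.card φ.range ≤ r := by
    refine card_le_of_faithful (G := φ.range) (V := W) (fun t => Subtype.ext (h2 t)) hr hr2 hW
      ?_ ?_
    · rintro ⟨_, a, rfl⟩ ⟨_, b, rfl⟩
      exact Subtype.ext (by show φ a * φ b = φ b * φ a; rw [← map_mul, hcomm, map_mul])
    · rintro ⟨_, a, rfl⟩
      exact Subtype.ext (by show φ a ^ r = 1; rw [← map_pow, hexp, map_one])
  intro hcyc
  have hker : φ.ker.map F.subtype ≤ F ⊓ C := by
    rintro _ ⟨f, hf, rfl⟩
    refine ⟨f.2, hC f f.2 fun w hw => ?_⟩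
    exact congrArg Subtype.val (DFunLike.congr_fun (MonoidHom.mem_ker.1 hf) ⟨w, hw⟩)
  have hkc : Nat.card (φ.ker.map F.subtype) ≤ r := by
    have : IsCyclic (φ.ker.map F.subtype) :=
      isCyclic_of_injective (inclusion hker) (inclusion_injective hker)
    rw [← IsCyclic.exponent_eq_card]
    exact Nat.le_of_dvd hr.pos (Monoid.exponent_dvd_of_forall_pow_eq_one
      fun a => Subtype.ext (hF.2 a (hker a.2).1))
  rw [card_map_of_injective F.subtype_injective] at hkc
  have h := φ.ker.card_mul_index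
  rw [index_ker, hF3] at h
  have := Nat.mul_le_mul hkc hle
  rw [h] at this
  have := hr.two_le
  nlinarith

omit h2 [Finite G] in
theorem pow_mem_of_dvd {P : Subgroup G} {σ : G} {a m : ℕ} (h1 : σ ^ a ∈ P) (h2 : σ ^ m ∈ P)
    (hco : Nat.Coprime a m) : σ ∈ P := by
  have h := Nat.gcd_eq_gcd_ab a m
  rw [hco.gcd_eq_one] at h
  have e : σ = σ ^ ((a : ℤ) * Nat.gcdA a m + (m : ℤ) * Nat.gcdB a m) := by
    rw [← h, Nat.cast_one, zpow_one]
  rw [e, zpow_add, zpow_mul, zpow_mul, zpow_natCast, zpow_natCast]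
  exact P.mul_mem (P.zpow_mem h1 _) (P.zpow_mem h2 _)

theorem exists_rank_three [Group.IsSolvable G] (hG : Odd (Nat.card G)) {x : G}
    (hxp : IsPGroup 3 (zpowers x)) (hx : ∀ t : V, x • x • x • t = t)
    (hD : Nat.card (mv (V := V) x).range = 4) {p : ℕ} (hp : p.Prime) (hp2 : p ≠ 2)
    {E : Subgroup G} (hE : Cfsg.IsElementaryAbelian p E) (hE3 : Nat.card E = p ^ 3) :
    ∃ (r : ℕ) (F : Subgroup G), r.Prime ∧ r ≠ 2 ∧ Cfsg.IsElementaryAbelian r F ∧
      Nat.card F = r ^ 3 ∧ ∀ C : Subgroup G,
        (∀ f : G, (∀ d ∈ (mv (V := V) x).range, f • d = d) → f ∈ C) → ¬ IsCyclic ↥(F ⊓ C) := by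
  classical
  obtain ⟨W, hDW, hW8, hblock⟩ := hasBlock h2 hG hx hD
  suffices hgoal : ∃ (r : ℕ) (F : Subgroup G), r.Prime ∧ r ≠ 2 ∧ Cfsg.IsElementaryAbelian r F ∧
      Nat.card F = r ^ 3 ∧ F ≤ setStab W by
    obtain ⟨r, F, hr, hr2, hF, hF3, hFW⟩ := hgoal
    exact ⟨r, F, hr, hr2, hF, hF3, fun C hC => not_isCyclic_fixer h2 hr hr2 hW8 hF hF3 hFW
      fun f _ hf => hC f fun d hd => hf d (hDW hd)⟩
  -- `x` moves a point of `W`
  have hnt : ¬ ∀ w ∈ W, x • w = w := by
    intro h
    have : (mv (V := V) x).range = ⊥ := (eq_bot_iff_forall _).2 fun d hd =>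
      eq_one_of_fixed_mem_range h2 hx hd (h d (hDW hd))
    simp [this] at hD
  have hxW : ∀ w ∈ W, x • w ∈ W := fun w hw =>
    smul_eq_of_mv_mem h2 hw (hDW ⟨w, rfl⟩)
  have hmove : ∀ b : G, b ∉ setStab W → ∀ w ∈ W, x • b • w = b • w := fun b hb => by
    refine hblock b ?_
    by_contra hcon
    push Not at hcon
    exact hb (mem_setStab hcon)
  -- elements commuting with `x` stabilise `W`
  have hcent : ∀ b : G, b * x = x * b → b ∈ setStab W := fun b hb => by
    by_contra hbW
    refine hnt fun w hw => ?_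
    have := hmove b hbW w hw
    rw [← mul_smul, ← hb, mul_smul] at this
    exact smul_left_cancel b this
  by_cases hEW : E ≤ setStab W
  · exact ⟨p, E, hp, hp2, hE, hE3, hEW⟩
  have hpf : Fact p.Prime := ⟨hp⟩
  rcases eq_or_ne p 3 with rfl | hp3
  · obtain ⟨T, hT⟩ := hxp.exists_le_sylow
    have hEp : IsPGroup 3 E := IsPGroup.of_card_dvd_pow (n := 3) (hE3.dvd)
    obtain ⟨T', hT'⟩ := hEp.exists_le_sylow
    obtain ⟨g, hg⟩ := MulAction.exists_smul_eq G T' T
    let ι : E →* (T : Subgroup G) := ((MulAut.conj g).toMonoidHom.comp E.subtype).codRestrict _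
      fun e => by
        rw [← hg]
        exact ⟨e, hT' e.2, rfl⟩
    have hι : Function.Injective ι := fun a b h => Subtype.ext
      ((MulAut.conj g).injective (congrArg Subtype.val h))
    obtain ⟨K, hKn, hKc, hKe, hK3⟩ := OddPrime.exists_normal_elementary_cube (p := 3) (by norm_num)
      T.2 (E := ι.range)
      (by rintro _ ⟨a, rfl⟩ _ ⟨b, rfl⟩; rw [← map_mul, hE.1.is_comm.comm, map_mul])
      (by
        rintro _ ⟨a, rfl⟩
        rw [← map_pow, show a ^ 3 = 1 from Subtype.ext (hE.2 a a.2), map_one])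
      (by rw [← Nat.card_congr (MonoidHom.ofInjective hι).toEquiv, hE3])
    refine ⟨3, K.map (T : Subgroup G).subtype, Nat.prime_three, by norm_num, ⟨⟨⟨?_⟩⟩, ?_⟩,
      by rw [card_map_of_injective (T : Subgroup G).subtype_injective, hK3], ?_⟩
    · rintro ⟨_, a, ha, rfl⟩ ⟨_, b, hb, rfl⟩
      refine Subtype.ext ?_
      show (a : G) * b = b * a
      exact congrArg Subtype.val (hKc a ha b hb)
    · rintro _ ⟨a, ha, rfl⟩
      exact congrArg Subtype.val (hKe a ha)
    rintro _ ⟨s, hs, rfl⟩
    by_contra hsW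
    set σ := (s : G) with hσ
    have hσ3 : σ ^ 3 = 1 := congrArg Subtype.val (hKe s hs)
    have hx0 : (⟨x, hT (mem_zpowers x)⟩ : (T : Subgroup G)) * s *
        (⟨x, hT (mem_zpowers x)⟩ : (T : Subgroup G))⁻¹ * s⁻¹ ∈ K :=
      K.mul_mem (hKn.conj_mem s hs _) (K.inv_mem hs)
    have hcσ : (x * σ * x⁻¹ * σ⁻¹) * σ = σ * (x * σ * x⁻¹ * σ⁻¹) :=
      congrArg Subtype.val (hKc _ hx0 s hs)
    have hm1 : σ⁻¹ ∉ setStab W := fun h => hsW (by
      simpa using (setStab (G := G) W).inv_mem h)
    have hm2 : σ⁻¹ * σ⁻¹ ∉ setStab W := fun h => hsW (by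
      have e : σ⁻¹ * σ⁻¹ = σ := by
        rw [← mul_inv_rev, inv_eq_iff_mul_eq_one, ← hσ3, pow_three, mul_assoc]
      rwa [e] at h)
    have hfix : ∀ b : G, b ∉ setStab W → ∀ w ∈ W, x⁻¹ • b • w = b • w := fun b hb w hw =>
      inv_smul_eq_iff.2 (hmove b hb w hw).symm
    refine hnt fun w hw => ?_
    have h1 : (x * σ * x⁻¹ * σ⁻¹) • w = x • w := by
      rw [mul_smul, mul_smul, mul_smul, hfix _ hm1 w hw, smul_inv_smul]
    have h3 : (x * σ * x⁻¹ * σ⁻¹) • σ⁻¹ • w = σ⁻¹ • w := by
      have e : x⁻¹ • σ⁻¹ • σ⁻¹ • w = σ⁻¹ • σ⁻¹ • w := by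
        have := hfix _ hm2 w hw
        rwa [mul_smul] at this
      rw [mul_smul, mul_smul, mul_smul, e, smul_inv_smul, hmove _ hm1 w hw]
    rw [← h1]
    calc (x * σ * x⁻¹ * σ⁻¹) • w = ((x * σ * x⁻¹ * σ⁻¹) * σ) • σ⁻¹ • w := by
          rw [mul_smul _ σ, smul_inv_smul]
      _ = w := by rw [hcσ, mul_smul, h3, smul_inv_smul]
  · have hp5 : 3 < p := lt_of_le_of_ne (by have := hp.two_le; omega) (Ne.symm hp3)
    set N := normalClosure ({x} : Set G)
    have : N.Normal := normalClosure_normal
    let T : Subgroup G := ⨅ g : G, (setStab W).map (MulAut.conj g).toMonoidHom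
    have hmemT : ∀ b, b ∈ T ↔ ∀ g : G, g⁻¹ * b * g ∈ setStab W := by
      intro b
      simp only [T, mem_iInf]
      refine forall_congr' fun g => ⟨?_, fun h => ⟨_, h, by simp [mul_assoc]⟩⟩
      rintro ⟨c, hc, rfl⟩
      simpa [mul_assoc] using hc
    have hTn : T.Normal := ⟨fun b hb g => (hmemT _).2 fun k => by
      have := (hmemT b).1 hb (g⁻¹ * k)
      simpa [mul_assoc] using this⟩
    have hxT : x ∈ T := (hmemT x).2 fun g => by
      refine mem_setStab fun v hv => ?_
      by_cases hg : g ∈ setStab W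
      · rw [mul_smul, mul_smul]
        exact (((setStab W).inv_mem hg) _).1 (hxW _ ((hg v).1 hv))
      · rw [mul_smul, mul_smul, hmove g hg v hv, inv_smul_smul]
        exact hv
    have hNT : N ≤ setStab W := fun b hb => by
      have := (hmemT b).1 (normalClosure_le_normal (Set.singleton_subset_iff.2 hxT) hb) 1
      simpa using this
    have hxN : x ∈ N := subset_normalClosure rfl
    have : Fact (Nat.Prime 3) := ⟨Nat.prime_three⟩
    have hxp' : IsPGroup 3 ((zpowers x).subgroupOf N) :=
      hxp.of_equiv (subgroupOfEquivOfLe (zpowers_le.2 hxN)).symm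
    obtain ⟨R, hR⟩ := hxp'.exists_le_sylow
    by_cases hrk : Cfsg.PRankLE 3 2 (R : Subgroup N)
    · exfalso
      apply hEW
      intro σ hσ
      set Rm := (R : Subgroup N).map N.subtype
      have htop := Sylow.normalizer_sup_eq_top R
      obtain ⟨n, hn, t, ht, hnt'⟩ := mem_sup_of_normal_right.1 (htop ▸ mem_top σ :
        σ ∈ normalizer (Rm : Set G) ⊔ N)
      have hxR : x ∈ Rm := ⟨⟨x, hxN⟩, hR (mem_zpowers x), rfl⟩
      obtain ⟨a, m, hm, hordn⟩ := Nat.exists_eq_pow_mul_and_not_dvd
        (orderOf_pos n).ne' p hp.ne_one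
      have hmS : n ^ m ∈ setStab W := by
        refine hcent _ ?_
        have hnm : n ^ m ∈ normalizer (Rm : Set G) := pow_mem hn m
        let ψ := normalizerMonoidHom Rm
        have hRm : IsPGroup 3 Rm := R.2.map N.subtype
        have hrk' : Cfsg.PRankLE 3 2 Rm := by
          intro A hA hAe
          let e := ((R : Subgroup N).equivMapOfInjective N.subtype N.subtype_injective).symm
          rw [Nat.card_congr (A.equivMapOfInjective e.toMonoidHom e.injective).toEquiv]
          refine hrk _ ⟨⟨?_⟩⟩ ?_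
          · rintro ⟨_, u, hu, rfl⟩ ⟨_, v, hv, rfl⟩
            exact Subtype.ext (by
              show e u * e v = e v * e u
              rw [← map_mul, ← map_mul, show u * v = v * u from
                congrArg Subtype.val (hA.is_comm.comm ⟨u, hu⟩ ⟨v, hv⟩)])
          · rintro _ ⟨u, hu, rfl⟩
            show e u ^ 3 = 1
            rw [← map_pow, hAe u hu, map_one]
        have h1 : ψ ⟨n ^ m, hnm⟩ = 1 := by
          by_contra hne
          have hpd : p ∣ Nat.card (MulAut Rm) := by
            have hpow : (ψ ⟨n ^ m, hnm⟩) ^ (p ^ a) = 1 := by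
              rw [← map_pow, show (⟨n ^ m, hnm⟩ : normalizer (Rm : Set G)) ^ (p ^ a) = 1 from
                Subtype.ext (by
                  show (n ^ m) ^ (p ^ a) = 1
                  rw [← pow_mul, mul_comm m, ← hordn, pow_orderOf_eq_one]), map_one]
            obtain ⟨i, -, hi⟩ := (Nat.dvd_prime_pow hp).1 (orderOf_dvd_of_pow_eq_one hpow)
            rcases i with _ | i
            · exact absurd (orderOf_eq_one_iff.1 (by simpa using hi)) hne
            · exact (hi ▸ dvd_pow_self p i.succ_ne_zero :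
                p ∣ orderOf (ψ ⟨n ^ m, hnm⟩)).trans (orderOf_dvd_natCard _)
          have := (PGroup.prime_divisor_aut_rank_two (by norm_num) hRm hrk' hp hp3 hpd).2
          omega
        have := congrArg Subtype.val (DFunLike.congr_fun h1 ⟨x, hxR⟩)
        have e : n ^ m * x * (n ^ m)⁻¹ = x := this
        calc n ^ m * x = n ^ m * x * (n ^ m)⁻¹ * n ^ m := (inv_mul_cancel_right _ _).symm
          _ = x * n ^ m := by rw [e]
      have hσN : σ = n * t := hnt'.symm
      have hnp : n ^ p ∈ setStab W := by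
        apply hNT
        have e : n = σ * t⁻¹ := by rw [hσN, mul_inv_cancel_right]
        rw [← QuotientGroup.eq_one_iff, QuotientGroup.mk_pow, e, QuotientGroup.mk_mul,
          QuotientGroup.mk_inv, (QuotientGroup.eq_one_iff t).2 ht, inv_one, mul_one,
          ← QuotientGroup.mk_pow, hE.2 σ hσ, QuotientGroup.mk_one]
      have hnW : n ∈ setStab W :=
        pow_mem_of_dvd hnp hmS (hp.coprime_iff_not_dvd.2 hm)
      rw [hσN]
      exact (setStab W).mul_mem hnW (hNT ht)
    · unfold Cfsg.PRankLE at hrk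
      push Not at hrk
      obtain ⟨A, hA, hAe, hA9⟩ := hrk
      obtain ⟨k, hk⟩ := (IsPGroup.iff_card (p := 3) (G := A)).1 fun u =>
        ⟨1, Subtype.ext (by simpa using hAe u u.2)⟩
      have hk3 : 3 ≤ k := by
        by_contra hk3
        have := Nat.pow_le_pow_right (show 0 < 3 by norm_num) (show k ≤ 2 by omega)
        omega
      obtain ⟨B, hB⟩ := Sylow.exists_subgroup_card_pow_prime (G := A) 3 (n := 3)
        (hk ▸ pow_dvd_pow 3 hk3)
      let f : A →* G := N.subtype.comp ((R : Subgroup N).subtype.comp A.subtype)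
      have hf : Function.Injective f := N.subtype_injective.comp
        ((R : Subgroup N).subtype_injective.comp A.subtype_injective)
      refine ⟨3, B.map f, Nat.prime_three, by norm_num, ⟨⟨⟨?_⟩⟩, ?_⟩,
        by rw [card_map_of_injective hf, hB], ?_⟩
      · rintro ⟨_, u, -, rfl⟩ ⟨_, v, -, rfl⟩
        exact Subtype.ext (by show f u * f v = f v * f u; rw [← map_mul, hA.is_comm.comm, map_mul])
      · rintro _ ⟨u, -, rfl⟩
        rw [← map_pow, show u ^ 3 = 1 from Subtype.ext (hAe u u.2), map_one]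
      · rintro _ ⟨u, -, rfl⟩
        exact hNT (((u : (R : Subgroup N)) : N)).2

end Cfsg.Agent.LineBlocks
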